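import Groth.Agent.PicF.K416.EllSection
import Mathlib.CategoryTheory.Monoidal.Cartesian.Grp

/-!
# The group law on a family of elliptic curves

* `R0 hC σ hσ T`: the rigidified classes of degree zero on `X_T`;
* `bijective_toR0`: `x ↦ O(Γ_x - Γ_σ)` is a bijection from the `T`-valued points of `X` onto `R0 T`;
* `existsUnique_grpObj`: the group law of `X`.
-/

set_option autoImplicit false
set_option backward.isDefEq.respectTransparency false
universe u
open CategoryTheory CategoryTheory.Limits AlgebraicGeometry TopologicalSpace Opposite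

namespace K416.EllGroup

section general

open MonoidalCategory CartesianMonoidalCategory MonObj

universe w v u₁

/-- If `X` represents a presheaf of groups `F` then `Hom(T, X) ≃* F(T)`. -/
theorem homEquiv_mul {D : Type u₁} [Category.{v} D] [CartesianMonoidalCategory D] {X : D}
    (F : Dᵒᵖ ⥤ GrpCat.{w}) (α : (F ⋙ forget _).RepresentableBy X) {T : D} (a b : T ⟶ X) :
    letI := GrpObj.ofRepresentableBy X F α
    α.homEquiv' (a * b) = α.homEquiv' a * α.homEquiv' b := by
  change α.homEquiv' (lift a b ≫ α.homEquiv'.symm (α.homEquiv' (fst X X) *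
    α.homEquiv' (snd X X))) = α.homEquiv' a * α.homEquiv' b
  simp only [α.homEquiv'_comp, Equiv.apply_symm_apply, map_mul]
  simp only [← α.homEquiv'_comp]
  simp

/-- A group structure is determined by the multiplication of points. -/
theorem grpObj_ext {D : Type u₁} [Category.{v} D] [CartesianMonoidalCategory D] {X : D} (g g' : GrpObj X)
    (h : ∀ (T : D) (a b : T ⟶ X), (letI := g; a * b) = (letI := g'; a * b)) : g = g' := by
  apply GrpObj.ext
  apply MonObj.ext
  have h1 := h (X ⊗ X) (fst X X) (snd X X)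
  change lift (fst X X) (snd X X) ≫ g.mul = lift (fst X X) (snd X X) ≫ g'.mul at h1
  rwa [lift_fst_snd, Category.id_comp, Category.id_comp] at h1

theorem key_add {G : Type*} [AddCommGroup G] (p q r s b : G) :
    -p + s + (-q + s) = -r + s + b ↔ p + q = r + s + -b := by
  constructor
  · intro h
    calc p + q = (r + s + -b) + ((-r + s + b) - (-p + s + (-q + s))) := by abel
      _ = r + s + -b := by rw [h]; abel
  · intro h
    calc -p + s + (-q + s) = (-r + s + b) + ((r + s + -b) - (p + q)) := by abel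
      _ = -r + s + b := by rw [h]; abel

theorem key_mul {G : Type*} [CommGroup G] (p q r s b : G) :
    p⁻¹ * s * (q⁻¹ * s) = r⁻¹ * s * b ↔ p * q = r * s * b⁻¹ :=
  key_add (G := Additive G) (Additive.ofMul p) (Additive.ofMul q) (Additive.ofMul r) (Additive.ofMul s)
    (Additive.ofMul b)

end general

open Groth.Agent Groth.Agent.Grpsch Groth.Agent.Grpsch.PicGrp Groth.Agent.Fga.RigGrp Groth.Agent.Fga.JacSum
open Groth.Agent.Picfga.ChiDef Groth.Agent.Fga.JacSurj Groth.Agent.Fga.JacFactor K532.CurvePic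
open Groth.Agent.Picfga Groth.Agent.Picfga.P1Def Groth.Agent.Picfga.SecGraph K416.EllField K416.EllMain

variable {X S : Scheme.{u}} {f : X ⟶ S}

theorem dg_one (T : Over S) : Dg f T 1 0 := by
  intro K _ t a
  rw [map_one, dgK_eq, sub_self]

/-- A class from the base has degree zero. -/
theorem dg_pull_XTproj (T : Over S) (m : Pic T.left) : Dg f T (pull (PicF.XTproj f T) m) 0 := by
  intro K _ t a
  have h1 : pull (PicF.XTmap f a) (pull (PicF.XTproj f T) m) =
      pull (PicF.XTproj f (Over.mk t)) (pull a.left m) := by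
    rw [← pull_comp, XTmap_XTproj, pull_comp]
  have h2 : pull a.left m = 1 := pic_spec_local K _
  rw [h1, h2, map_one, dgK_eq, sub_self]

/-- Equality of normalisations. -/
theorem norm_eq_iff {σ : S ⟶ X} {hσ : σ ≫ f = 𝟙 S} {T : Over S} {c d : Pic (PicF.XT f T)} :
    norm f σ hσ T c = norm f σ hσ T d ↔ ∃ m : Pic T.left, c = d * pull (PicF.XTproj f T) m := by
  constructor
  · intro h
    refine ⟨pull (PicF.secT f σ hσ T) c / pull (PicF.secT f σ hσ T) d, ?_⟩
    rw [norm_apply, norm_apply, div_eq_div_iff_mul_eq_mul] at h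
    rw [map_div, mul_div_assoc', eq_div_iff_mul_eq']
    exact h
  · rintro ⟨m, rfl⟩
    rw [map_mul, norm_pull_XTproj, mul_one]

section main

variable [SmoothOfRelativeDimension 1 f] [IsProper f] (hC : K333.Fam.IsCurve f 1)
  (σ : S ⟶ X) (hσ : σ ≫ f = 𝟙 S)

/-- The section as a `T`-valued point. -/
noncomputable def sT (T : Over S) : T ⟶ Over.mk f := Over.homMk (T.hom ≫ σ) (by
  change (T.hom ≫ σ) ≫ f = T.hom
  rw [Category.assoc, hσ, Category.comp_id])

omit [SmoothOfRelativeDimension 1 f] [IsProper f] in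
theorem comp_sT {T T' : Over S} (g : T' ⟶ T) : g ≫ sT σ hσ T = sT σ hσ T' := by
  apply Over.OverMorphism.ext
  change g.left ≫ T.hom ≫ σ = T'.hom ≫ σ
  rw [Over.w_assoc]

include hC in
theorem dg_quot {T : Over S} (x : T ⟶ Over.mk f) : Dg f T ((G1 x)⁻¹ * G1 (sT σ hσ T)) 0 := by
  have h1 := Dg.mul hC (Dg.inv hC (dg_G1 hC x)) (dg_G1 hC (sT σ hσ T))
  simpa using h1

omit [SmoothOfRelativeDimension 1 f] [IsProper f] in
include hC in
theorem dg_norm {T : Over S} {c : Pic (PicF.XT f T)} (hc : Dg f T c 0) : Dg f T (norm f σ hσ T c) 0 := by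
  rw [norm_apply, div_eq_mul_inv]
  have h1 := Dg.mul hC hc (Dg.inv hC (dg_pull_XTproj T (pull (PicF.secT f σ hσ T) c)))
  simpa using h1

/-- The rigidified classes of degree zero. -/
noncomputable def R0 (T : Over S) : Subgroup (Pic (PicF.XT f T)) where
  carrier := {c | c ∈ Rg f σ hσ T ∧ Dg f T c 0}
  mul_mem' := by
    rintro a b ⟨ha, ha'⟩ ⟨hb, hb'⟩
    refine ⟨mul_mem ha hb, ?_⟩
    have := Dg.mul hC ha' hb'
    simpa using this
  one_mem' := ⟨one_mem _, dg_one T⟩
  inv_mem' := by
    rintro a ⟨ha, ha'⟩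
    refine ⟨inv_mem ha, ?_⟩
    have := Dg.inv hC ha'
    simpa using this

/-- `x ↦ O(Γ_x - Γ_σ)`, rigidified. -/
noncomputable def toR0 (T : Over S) (x : T ⟶ Over.mk f) : R0 hC σ hσ T :=
  ⟨norm f σ hσ T ((G1 x)⁻¹ * G1 (sT σ hσ T)), norm_mem f σ hσ T _, dg_norm hC σ hσ (dg_quot hC σ hσ x)⟩

theorem toR0_val {T : Over S} (x : T ⟶ Over.mk f) :
    (toR0 hC σ hσ T x).1 = norm f σ hσ T ((G1 x)⁻¹ * G1 (sT σ hσ T)) := rfl

theorem bijective_toR0 (T : Over S) : Function.Bijective (toR0 hC σ hσ T) := by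
  constructor
  · intro x y hxy
    have h1 := congrArg Subtype.val hxy
    rw [toR0_val, toR0_val, norm_eq_iff] at h1
    obtain ⟨m, hm⟩ := h1
    have h2 : Dg f T (G1 x)⁻¹ 1 := by
      have := Dg.inv hC (dg_G1 hC x)
      simpa using this
    refine unique hC h2 (m := 1) (n := pull (𝟙 T.left) m) ?_ ?_
    · rw [inv_mul_cancel, map_one]
    · rw [pull_id]
      have h3 : (G1 x)⁻¹ = (G1 y)⁻¹ * pull (PicF.XTproj f T) m := by
        rw [mul_right_comm] at hm
        exact mul_right_cancel hm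
      rw [h3, mul_right_comm, inv_mul_cancel, one_mul]
  · rintro ⟨c, hc, hc'⟩
    have h2 : Dg f T (c * (G1 (sT σ hσ T))⁻¹) 1 := by
      have := Dg.mul hC hc' (Dg.inv hC (dg_G1 hC (sT σ hσ T)))
      simpa using this
    obtain ⟨x, m, hx⟩ := exists_point hC σ hσ h2
    refine ⟨x, Subtype.ext ?_⟩
    rw [toR0_val]
    change _ = c
    rw [← norm_of_mem f σ hσ hc, norm_eq_iff]
    refine ⟨m⁻¹, ?_⟩
    rw [map_inv, ← hx, mul_inv, mul_inv, inv_inv, mul_comm (G1 x)⁻¹, ← mul_assoc, ← mul_assoc,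
      mul_inv_cancel, one_mul]

/-- Pullback of rigidified classes of degree zero. -/
noncomputable def r0Map {T T' : Over S} (g : T' ⟶ T) : R0 hC σ hσ T →* R0 hC σ hσ T' where
  toFun c := ⟨pull (PicF.XTmap f g) c.1, pull_mem g c.2.1, c.2.2.pull g⟩
  map_one' := Subtype.ext (map_one _)
  map_mul' _ _ := Subtype.ext (map_mul _ _ _)

/-- The presheaf of groups of rigidified classes of degree zero. -/
noncomputable def R0F : (Over S)ᵒᵖ ⥤ GrpCat.{u + 1} where
  obj T := GrpCat.of (R0 hC σ hσ T.unop)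
  map g := GrpCat.ofHom (r0Map hC σ hσ g.unop)
  map_id T := by
    ext c
    change pull (PicF.XTmap f (𝟙 T.unop)) c.1 = c.1
    rw [XTmap_id, pull_id]
  map_comp g h := by
    ext c
    change pull (PicF.XTmap f (h.unop ≫ g.unop)) c.1 = pull _ (pull _ c.1)
    rw [XTmap_comp, pull_comp]

/-- `X` represents the rigidified classes of degree zero. -/
noncomputable def rep : (R0F hC σ hσ ⋙ forget _).RepresentableBy (Over.mk f) where
  homEquiv {T} := Equiv.ofBijective _ (bijective_toR0 hC σ hσ T)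
  homEquiv_comp {T T'} g h := by
    apply Subtype.ext
    change norm f σ hσ T ((G1 (g ≫ h))⁻¹ * G1 (sT σ hσ T)) =
      pull (PicF.XTmap f g) (norm f σ hσ T' ((G1 h)⁻¹ * G1 (sT σ hσ T')))
    have h1 : pull (PicF.XTmap f g) ((G1 h)⁻¹ * G1 (sT σ hσ T')) = (G1 (g ≫ h))⁻¹ * G1 (sT σ hσ T) := by
      rw [map_mul, map_inv, pull_G1, pull_G1, comp_sT]
    rw [pull_norm, h1]

omit [SmoothOfRelativeDimension 1 f] [IsProper f] in
open MonObj in
theorem mul_iff [SmoothOfRelativeDimension 1 f] [IsProper f] (hC : K333.Fam.IsCurve f 1) {T : Over S} (P Q R : T ⟶ Over.mk f) :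
    letI := GrpObj.ofRepresentableBy (Over.mk f) (R0F hC σ hσ) (rep hC σ hσ)
    P * Q = R ↔ ∃ m : Pic T.left, G1 P * G1 Q = G1 R * G1 (sT σ hσ T) * pull (PicF.XTproj f T) m := by
  let _ := GrpObj.ofRepresentableBy (Over.mk f) (R0F hC σ hσ) (rep hC σ hσ)
  have h1 : P * Q = R ↔ toR0 hC σ hσ T P * toR0 hC σ hσ T Q = toR0 hC σ hσ T R := by
    rw [← (bijective_toR0 hC σ hσ T).1.eq_iff]
    have h2 := homEquiv_mul (R0F hC σ hσ) (rep hC σ hσ) P Q
    constructor
    · intro h
      exact h2.symm.trans h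
    · intro h
      exact h2.trans h
  rw [h1, Subtype.ext_iff, Subgroup.coe_mul, toR0_val, toR0_val, toR0_val, ← map_mul, norm_eq_iff]
  constructor
  · rintro ⟨m, hm⟩
    exact ⟨m⁻¹, by rw [map_inv]; exact (key_mul _ _ _ _ _).1 hm⟩
  · rintro ⟨m, hm⟩
    refine ⟨m⁻¹, (key_mul _ _ _ _ _).2 ?_⟩
    rw [map_inv, inv_inv]
    exact hm

theorem modules_iff {T : Over S} (P Q R : T ⟶ Over.mk f) :
    (∃ M : T.left.Modules, PicF.IsInvertible M ∧
        Nonempty (CohB1.tensorMod
            (ClSub.idealMod (pullback.lift P.left (𝟙 T.left)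
              ((Over.w P).trans (Category.id_comp T.hom).symm) : T.left ⟶ PicF.XT f T).ker)
            (ClSub.idealMod (pullback.lift Q.left (𝟙 T.left)
              ((Over.w Q).trans (Category.id_comp T.hom).symm) : T.left ⟶ PicF.XT f T).ker) ≅
          CohB1.tensorMod (CohB1.tensorMod
            (ClSub.idealMod (pullback.lift R.left (𝟙 T.left)
              ((Over.w R).trans (Category.id_comp T.hom).symm) : T.left ⟶ PicF.XT f T).ker)
            (ClSub.idealMod (PicF.secT f σ hσ T).ker))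
            ((Scheme.Modules.pullback (PicF.XTproj f T)).obj M))) ↔
    ∃ m : Pic T.left, G1 P * G1 Q = G1 R * G1 (sT σ hσ T) * pull (PicF.XTproj f T) m := by
  constructor
  · rintro ⟨M, hM, hiso⟩
    refine ⟨mk M hM, ?_⟩
    rw [G1, G1, G1, G1, gcl, gcl, gcl, gcl, pull_mk, mk_mul_mk, mk_mul_mk, mk_mul_mk, mk_eq_iff]
    exact hiso
  · rintro ⟨m, hm⟩
    obtain ⟨M, hM, rfl⟩ := exists_mk m
    refine ⟨M, hM, ?_⟩
    rw [G1, G1, G1, G1, gcl, gcl, gcl, gcl, pull_mk, mk_mul_mk, mk_mul_mk, mk_mul_mk, mk_eq_iff] at hm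
    exact hm

include hC in
open MonObj in
/-- The group law of a family of elliptic curves. -/
theorem existsUnique_grpObj :
    ∃! g : GrpObj (Over.mk f), ∀ (T : Over S) (P Q R : T ⟶ Over.mk f),
      P * Q = R ↔ ∃ M : T.left.Modules, PicF.IsInvertible M ∧
        Nonempty (CohB1.tensorMod
            (ClSub.idealMod (pullback.lift P.left (𝟙 T.left)
              ((Over.w P).trans (Category.id_comp T.hom).symm) : T.left ⟶ PicF.XT f T).ker)
            (ClSub.idealMod (pullback.lift Q.left (𝟙 T.left)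
              ((Over.w Q).trans (Category.id_comp T.hom).symm) : T.left ⟶ PicF.XT f T).ker) ≅
          CohB1.tensorMod (CohB1.tensorMod
            (ClSub.idealMod (pullback.lift R.left (𝟙 T.left)
              ((Over.w R).trans (Category.id_comp T.hom).symm) : T.left ⟶ PicF.XT f T).ker)
            (ClSub.idealMod (PicF.secT f σ hσ T).ker))
            ((Scheme.Modules.pullback (PicF.XTproj f T)).obj M)) := by
  refine ⟨GrpObj.ofRepresentableBy (Over.mk f) (R0F hC σ hσ) (rep hC σ hσ), fun T P Q R => ?_, fun g hg => ?_⟩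
  · rw [modules_iff]
    exact mul_iff σ hσ hC P Q R
  · refine grpObj_ext g _ fun T P Q => ?_
    refine (hg T P Q _).2 ?_
    rw [modules_iff]
    exact (mul_iff σ hσ hC P Q _).1 rfl

end main

end K416.EllGroup
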