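import Groth.Agent.PicF.K416.UGenExists
import Groth.Agent.JacVar.K532.CurvePic
import Groth.Agent.JacVar.K532.UnitBase
import Groth.Agent.Curves.K333.Fam
import Groth.Agent.VarietyA.CurveLin
import Groth.Agent.Etcore.DegZero
import Groth.Agent.Fga.JacFib

/-!
# Classes of invertible modules on a family of curves of genus one, on field valued fibres

* `Dg f T c d`: the class `c` on `X_T` has degree `d` on all field valued fibres; `Dg.mul`, `Dg.inv`, `Dg.pull`,
  `dg_gcl`: `O(-Γ_x)` has degree `-1`;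
* `fh_of_dg_one`: a class of degree one has `h⁰ = 1` and no higher cohomology on the fibres.
-/

set_option autoImplicit false
set_option backward.isDefEq.respectTransparency false
universe u
open CategoryTheory CategoryTheory.Limits AlgebraicGeometry TopologicalSpace Opposite

namespace K416.EllField

open Groth.Agent Groth.Agent.Grpsch Groth.Agent.Grpsch.PicGrp Groth.Agent.Fga.RigGrp Groth.Agent.Fga.JacSum
open Groth.Agent.Picfga.ChiDef Groth.Agent.Fga.JacSurj Groth.Agent.Fga.JacFactor K532.CurvePic K416.UGenExists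
open Groth.Agent.Flat2F.DescLocal Groth.Agent.VarietyA.CurveLin

section basis

/-- A basis of the sections when `h⁰ = 1`. -/
theorem exists_basis (k : Type u) [Field k] (X : Scheme.{u}) [X.Over (Spec (CommRingCat.of k))] (L : X.Modules)
    (h : Module.finrank k (Coh.HH X L 0) = 1) :
    ∃ s : Γ(L, ⊤), Function.Bijective (fun c : k => scal (X ↘ Spec (CommRingCat.of k)) c • s) := by
  obtain ⟨v, hv, hw⟩ := finrank_eq_one_iff'.1 h
  have key : ∀ c : k, scal (X ↘ Spec (CommRingCat.of k)) c • secOf L v = secOf L (c • v) := fun c =>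
    (secOf_smul L (Coh.toGlobal (X ↘ Spec (CommRingCat.of k)) c) v).symm
  refine ⟨secOf L v, fun c c' hcc => ?_, fun t => ?_⟩
  · dsimp only at hcc
    rw [key, key] at hcc
    have h1 := (secOf L).injective hcc
    have h2 : (c - c') • v = 0 := by rw [sub_smul, h1, sub_self]
    exact sub_eq_zero.1 ((smul_eq_zero.1 h2).resolve_right hv)
  · obtain ⟨c, hc⟩ := hw ((secOf L).symm t)
    refine ⟨c, ?_⟩
    dsimp only
    rw [key, hc, AddEquiv.apply_symm_apply]

end basis

variable {X S : Scheme.{u}} (f : X ⟶ S)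

/-- The degree of a class on `X_K`. -/
noncomputable def dgK {K : Type u} [Field K] (t : Spec (CommRingCat.of K) ⟶ S) (c : Pic (PicF.XT f (Over.mk t))) : ℤ :=
  letI := overK f t
  Etcore.DegZero.dg K (PicF.XT f (Over.mk t)) c

theorem dgK_eq {K : Type u} [Field K] (t : Spec (CommRingCat.of K) ⟶ S) (c : Pic (PicF.XT f (Over.mk t))) :
    dgK f t c = chiK f t c - chiK f t 1 := by
  obtain ⟨L, hL, rfl⟩ := exists_mk c
  rfl

/-- The class `c` on `X_T` has degree `d` on all field valued fibres. -/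
def Dg (T : Over S) (c : Pic (PicF.XT f T)) (d : ℤ) : Prop :=
  ∀ (K : Type u) [Field K] (t : Spec (CommRingCat.of K) ⟶ S) (a : Over.mk t ⟶ T),
    dgK f t (pull (PicF.XTmap f a) c) = d

variable {f}

theorem Dg.pull {T T' : Over S} {c : Pic (PicF.XT f T)} {d : ℤ} (h : Dg f T c d) (g : T' ⟶ T) :
    Dg f T' (pull (PicF.XTmap f g) c) d := by
  intro K _ t a
  rw [← pull_comp, ← XTmap_comp]
  exact h K t (a ≫ g)

section curve

variable {g : ℕ} (hC : K333.Fam.IsCurve f g)

include hC

theorem isCurve {K : Type u} [Field K] (t : Spec (CommRingCat.of K) ⟶ S) :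
    letI := overK f t
    IsCurve K (PicF.XT f (Over.mk t)) ∧ gen K (PicF.XT f (Over.mk t)) = g := by
  let _ := overK f t
  obtain ⟨h1, h2, h3, h4, h5, h6, h7⟩ := hC.field K t (PicF.XT f (Over.mk t)) (pullback.fst f t)
    (IsPullback.of_hasPullback f t)
  have h8 : Smooth (PicF.XT f (Over.mk t) ↘ Spec (CommRingCat.of K)) := SmoothOfRelativeDimension.smooth 1 _
  have h9 : ConnectedSpace (PicF.XT f (Over.mk t)) :=
    GeometricallyConnected.connectedSpace_of_subsingleton (PicF.XT f (Over.mk t) ↘ Spec (CommRingCat.of K))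
  have h10 : IsIntegral (PicF.XT f (Over.mk t)) :=
    K532.Base.isIntegral_of_connected (PicF.XT f (Over.mk t) ↘ Spec (CommRingCat.of K))
  exact ⟨⟨⟨h1, h8, h10, h4⟩, h6⟩, h5⟩

theorem dgK_mul {K : Type u} [Field K] (t : Spec (CommRingCat.of K) ⟶ S) (a b : Pic (PicF.XT f (Over.mk t))) :
    dgK f t (a * b) = dgK f t a + dgK f t b := by
  let _ := overK f t
  exact deg_mul (isCurve hC t).1 a b

theorem dgK_inv {K : Type u} [Field K] (t : Spec (CommRingCat.of K) ⟶ S) (a : Pic (PicF.XT f (Over.mk t))) :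
    dgK f t a⁻¹ = - dgK f t a := by
  let _ := overK f t
  exact deg_inv (isCurve hC t).1 a

theorem Dg.mul {T : Over S} {a b : Pic (PicF.XT f T)} {m n : ℤ} (ha : Dg f T a m) (hb : Dg f T b n) :
    Dg f T (a * b) (m + n) := by
  intro K _ t x
  rw [map_mul, dgK_mul hC, ha, hb]

theorem Dg.inv {T : Over S} {a : Pic (PicF.XT f T)} {m : ℤ} (ha : Dg f T a m) :
    Dg f T a⁻¹ (-m) := by
  intro K _ t x
  rw [map_inv, dgK_inv hC, ha]

/-- `O(-Γ_x)` has degree `-1`. -/
theorem dg_gcl [SmoothOfRelativeDimension 1 f] [IsSeparated f] {T : Over S} (x : Pt f T) :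
    Dg f T (gcl f x) (-1) := by
  intro K _ t a
  rw [pull_gcl]
  let _ := overK f t
  exact K532.UnitBase.dg_ker (isCurve hC t).1.curve (Picfga.SecGraph.sec f (Over.mk t) (x.comp a).1 (x.comp a).2)
    (Picfga.SecGraph.sec_proj f _ _) (isEff_secGraph f (x.comp a))

end curve

/-- The degree can be checked at the residue fields. -/
theorem dg_of_residueField [QuasiCompact f] [QuasiSeparated f] {T : Over S} {c : Pic (PicF.XT f T)} {d : ℤ}
    (h : ∀ s : T.left, chiAt f T s c = chiAt f T s 1 + d) : Dg f T c d := by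
  intro K _ t a
  rw [dgK_eq]
  have hz : ∀ z', a.left z' = a.left (default : PrimeSpectrum K) := fun z' => by
    rw [Subsingleton.elim (α := PrimeSpectrum K) z' (default : PrimeSpectrum K)]
  have key : ∀ e : Pic (PicF.XT f T), chiK f t (pull (PicF.XTmap f a) e) =
      chiAt f T (a.left (default : PrimeSpectrum K)) e := by
    intro e
    rw [← chiPt_eq_chiAt (Fga.JacFib.bcStep f) T a.left _ hz, chiPt]
    exact (chiK_congr (f := f) (Over.w a) (ofHom T a.left) a rfl e).symm
  have h1 := key c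
  have h2 := key 1
  rw [map_one] at h2
  rw [h1, h2, h]
  ring

/-- A class of degree one on a family of curves of genus one has `h⁰ = 1` and no higher cohomology on the fibres. -/
theorem fh_of_dg_one (hC : K333.Fam.IsCurve f 1) {T : Over S} {N : (PicF.XT f T).Modules}
    (hN : PicF.IsInvertible N) (hd : Dg f T (mk N hN) 1) : FH (PicF.XTproj f T) N := by
  intro K _ X' a p t' H
  let t : Spec (CommRingCat.of K) ⟶ S := t' ≫ T.hom
  let b : Over.mk t ⟶ T := ofHom T t'
  have Hb : IsPullback (PicF.XTmap f b) (PicF.XTproj f (Over.mk t)) (PicF.XTproj f T) t' :=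
    Picfga.HilbPull.isPullback_XTmap f b
  let e : X' ⟶ PicF.XT f (Over.mk t) := Hb.lift a p H.w
  have he₁ : e ≫ PicF.XTmap f b = a := Hb.lift_fst _ _ _
  have he₂ : e ≫ PicF.XTproj f (Over.mk t) = p := Hb.lift_snd _ _ _
  have He : IsPullback e p (PicF.XTproj f (Over.mk t)) (𝟙 (Spec (CommRingCat.of K))) :=
    IsPullback.of_right (by rwa [he₁, Category.id_comp]) (by rw [he₂, Category.comp_id]) Hb
  let _ := overK f t
  let _ : X'.Over (Spec (CommRingCat.of K)) := ⟨p⟩
  obtain ⟨h1, h2, h3, h4, h5, h6, h7⟩ := (hC.baseChange (IsPullback.of_hasPullback f T.hom)).field K t' X' a H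
  have h8 : Smooth (X' ↘ Spec (CommRingCat.of K)) := SmoothOfRelativeDimension.smooth 1 _
  have h9 : ConnectedSpace X' :=
    GeometricallyConnected.connectedSpace_of_subsingleton (X' ↘ Spec (CommRingCat.of K))
  have h10 : IsIntegral X' := K532.Base.isIntegral_of_connected (X' ↘ Spec (CommRingCat.of K))
  have hX : IsCurve K X' := ⟨⟨h1, h8, h10, h4⟩, h6⟩
  have hgen : gen K X' = 1 := h5
  have hN' : PicF.IsInvertible ((Scheme.Modules.pullback a).obj N) := Fdesc.LocGen.isInvertible_pullback a hN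
  have p1 : IsProper (PicF.XT f (Over.mk t) ↘ Spec (CommRingCat.of K)) := (isCurve hC t).1.proper
  have p2 : CompactSpace (PicF.XT f (Over.mk t)) :=
    QuasiCompact.compactSpace_of_compactSpace (PicF.XT f (Over.mk t) ↘ Spec (CommRingCat.of K))
  have p3 : QuasiSeparatedSpace (PicF.XT f (Over.mk t)) :=
    quasiSeparatedSpace_of_quasiSeparated (PicF.XT f (Over.mk t) ↘ Spec (CommRingCat.of K))
  have hdeg : deg K X' (mk _ hN') = 1 := by
    have k1 : mk _ hN' = pull e (pull (PicF.XTmap f b) (mk N hN)) := by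
      rw [← pull_comp, he₁, pull_mk]
    rw [k1, deg, Etcore.DegZero.dg_pull K (PicF.XT f (Over.mk t)) K X' e (𝟙 _) He]
    exact hd K t b
  have hh1 : h K X' 1 (mk _ hN') = 0 := by
    rw [serre hX]
    refine h0_eq_zero_of_deg_neg hX ?_
    rw [deg_mul hX, deg_inv hX, deg_om hX, hdeg, hgen]
    norm_num
  have hh0 : h K X' 0 (mk _ hN') = 1 := by
    have k1 := rr hX (mk _ hN')
    rw [hh1, hdeg, hgen] at k1
    push_cast at k1
    omega
  refine ⟨fun q hq => ?_, ?_⟩
  · obtain rfl | hq' := (Nat.one_le_iff_ne_zero.2 hq.ne').eq_or_lt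
    · by_contra hcon
      rw [not_subsingleton_iff_nontrivial] at hcon
      have k1 := (nontrivial_iff hX hN' 1).1 hcon
      omega
    · exact CurvesC.CurveCoh.subsingleton_H_ge_two K X' h4 _ q hq'
  · refine exists_basis K X' _ ?_
    rw [← h_mk K X' 0 hN']
    exact hh0

end K416.EllField
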