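import Groth.Agent.PicF.K416.EllGroup
import Groth.Agent.PicF.K247.RigZero
import Groth.Agent.PicF.K247.RelDim

/-!
# An elliptic curve is its own `Pic⁰`

`f : X ⟶ S` a smooth proper family of curves of genus one with a section `e`, and `(P₀, φ₀)` representing `Pic⁰`.

* `fibZero_iff_dg`: the classes in `Pic⁰` are the classes of degree zero;
* `isIso_phi`: `φ₀` of the universal class `O(Γ - e)` is an isomorphism.
-/

set_option autoImplicit false
set_option backward.isDefEq.respectTransparency false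
universe u
open CategoryTheory CategoryTheory.Limits AlgebraicGeometry TopologicalSpace Opposite
open MonoidalCategory CartesianMonoidalCategory

namespace K416.EllJac

open Groth.Agent Groth.Agent.Grpsch Groth.Agent.Grpsch.PicGrp Groth.Agent.Fga.RigGrp Groth.Agent.Fga.JacSum
open Groth.Agent.Picfga.ChiDef Groth.Agent.Fga.JacSurj Groth.Agent.Fga.JacFactor K532.CurvePic
open Groth.Agent.Picfga K416.EllField K416.EllMain K416.EllGroup K532.UnitBase K416.EllSection
open K530.PicZero K247.DegFn K247.FibDeg K247.RigZero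

variable {X S : Scheme.{u}} {f : X ⟶ S} [IsProper f] [Smooth f] [GeometricallyConnected f]
  (hdim : ∀ s : S, topologicalKrullDim ↥(f.fiber s) = 1)

include hdim in
theorem fibZero_iff_dg {T : Over S} (c : Pic (PicF.XT f T)) : FibZero (PicF.XTproj f T) c ↔ Dg f T c 0 := by
  rw [fibZero_iff f hdim]
  constructor
  · intro h
    refine dg_of_residueField fun s => ?_
    have h1 := h s
    rw [degAt, sub_eq_zero] at h1
    rw [h1, add_zero]
  · intro h t
    have h1 := h (T.left.residueField t) (fsr T.left t ≫ T.hom) (ofHom T (fsr T.left t))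
    rw [dgK_eq] at h1
    have h2 : chiAt f T t 1 = chiK f (fsr T.left t ≫ T.hom) 1 := by
      rw [chiAt, chiPt, map_one]
    rw [degAt, h2]
    exact h1

section main

variable [SmoothOfRelativeDimension 1 f] (hC : K333.Fam.IsCurve f 1)
  (e : S ⟶ X) (he : e ≫ f = 𝟙 S)
  {P₀ : Over S} {φ₀ : ∀ T : Over S, PicF.Cl (PicF.XT f T) → (T ⟶ P₀)}
  (hP₀ : AbDual.IsRelPicZeroK Scheme.fppfPrecoverage f P₀ φ₀)

include hdim hC hP₀ in
theorem bijective (T : Over S) : Function.Bijective
    (fun x : T ⟶ Over.mk f => φ₀ T (toCl ((G1 x)⁻¹ * G1 (sT e he T)))) := by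
  have key : ∀ x : T ⟶ Over.mk f, φ₀ T (toCl ((G1 x)⁻¹ * G1 (sT e he T))) =
      φ₀ T (toCl (toR0 hC e he T x).1) := fun x =>
    (phi_norm e he hP₀ T _ ((fibZero_iff_dg hdim _).2 (dg_quot hC e he x))).2.symm
  constructor
  · intro x y hxy
    dsimp only at hxy
    rw [key, key] at hxy
    have h1 := phi_injective e he hP₀ T _ _ (toR0 hC e he T x).2.1 (toR0 hC e he T y).2.1
      ((fibZero_iff_dg hdim _).2 (toR0 hC e he T x).2.2) ((fibZero_iff_dg hdim _).2 (toR0 hC e he T y).2.2) hxy
    exact (bijective_toR0 hC e he T).1 (Subtype.ext h1)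
  · intro g
    obtain ⟨c, hc, hc0, hg⟩ := exists_rig hdim e he hP₀ T g
    obtain ⟨x, hx⟩ := (bijective_toR0 hC e he T).2 ⟨c, hc, (fibZero_iff_dg hdim _).1 hc0⟩
    refine ⟨x, ?_⟩
    dsimp only
    rw [key, hx]
    exact hg

include hdim hC hP₀ in
theorem isIso_phi : IsIso (φ₀ (Over.mk f) (toCl ((G1 (𝟙 (Over.mk f)))⁻¹ * G1 (sT e he (Over.mk f))))) := by
  refine isIso_of_yoneda_map_bijective _ fun T => ?_
  have h1 := bijective hdim hC e he hP₀ T
  convert h1 using 2 with x
  rw [← hP₀.natural _ _ x _ ((isPicZeroCl_toCl_iff f _ _).2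
    ((fibZero_iff_dg hdim _).2 (dg_quot hC e he _))), ← toCl_pull, map_mul, map_inv, pull_G1, pull_G1, comp_sT,
    Category.comp_id]

omit [Smooth f] [GeometricallyConnected f] in
theorem fst_ui (T : Over S) : pullback.fst f T.hom ≫ ui f = PicF.XTmap f (toUnit T) := by
  apply pullback.hom_ext
  · rw [Category.assoc, ui_fst, Category.comp_id, XTmap_fst]
  · have h1 : PicF.XTmap f (toUnit T) ≫ PicF.XTproj f (𝟙_ (Over S)) = PicF.XTproj f T ≫ (toUnit T).left :=
      XTmap_XTproj f (toUnit T)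
    have h2 : (toUnit T).left = T.hom := by
      have := Over.w (toUnit T)
      change _ ≫ 𝟙 S = _ at this
      rwa [Category.comp_id] at this
    rw [h2] at h1
    rw [Category.assoc]
    refine (congrArg (fun z => pullback.fst f T.hom ≫ z) (ui_proj f)).trans ?_
    exact pullback.condition.trans h1.symm

omit [Smooth f] [GeometricallyConnected f] in
/-- The ideal of the section, pulled back. -/
theorem pull_fst_ideal (T : Over S) (h : PicF.IsInvertible (ClSub.idealMod e.ker)) :
    pull (pullback.fst f T.hom) (mk (ClSub.idealMod e.ker) h) = G1 (sT e he T) := by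
  rw [mk_idealMod_ker e he, ← pull_comp, fst_ui, pull_gcl]
  congr 1

include hdim hC hP₀ he in
theorem isIso_left (LΔ : (PicF.XT f (Over.mk f)).Modules) (hLΔ : PicF.IsInvertible LΔ)
    (hΔ : ClSub.IsInverseOf LΔ (ClSub.idealMod (pullback.diagonal f).ker)) :
    IsIso (φ₀ (Over.mk f) (PicF.cl (CohB1.tensorMod LΔ
      ((Scheme.Modules.pullback (pullback.fst f f)).obj (ClSub.idealMod e.ker))))).left := by
  have hI : PicF.IsInvertible (ClSub.idealMod e.ker) :=
    Dix.IdealModCartier.isInvertible_idealMod (isEff_ker f e he)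
  have h1 : mk LΔ hLΔ = (G1 (𝟙 (Over.mk f)))⁻¹ := by
    rw [eq_inv_iff_mul_eq_one]
    rw [G1, gcl, mk_mul_mk, mk_eq_one_iff]
    exact hΔ
  have h2 := pull_fst_ideal e he (Over.mk f) hI
  have h3 : PicF.cl (CohB1.tensorMod LΔ
      ((Scheme.Modules.pullback (pullback.fst f f)).obj (ClSub.idealMod e.ker))) =
      toCl ((G1 (𝟙 (Over.mk f)))⁻¹ * G1 (sT e he (Over.mk f))) := by
    rw [← h1, ← h2, pull_mk, mk_mul_mk, toCl_mk]
    rfl
  rw [h3]
  have := isIso_phi hdim hC e he hP₀
  infer_instance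

end main

/-- The hypotheses of the statement. -/
theorem result {E S : Scheme.{u}} (f : E ⟶ S)
    [IsProper f] [Smooth f] [GeometricallyConnected f]
    (hdim : ∀ s : S, topologicalKrullDim ↥(f.fiber s) = 1)
    (hg : ∀ s : S, CohIII.fiberRank f (Coh.structureModule E) 1 s = 1)
    (e : S ⟶ E) (he : e ≫ f = 𝟙 S)
    (P₀ : Over S) (φ₀ : ∀ T : Over S, PicF.Cl (PicF.XT f T) → (T ⟶ P₀))
    (hP₀ : AbDual.IsRelPicZeroK Scheme.fppfPrecoverage f P₀ φ₀)
    (LΔ : (PicF.XT f (Over.mk f)).Modules) (hLΔ : PicF.IsInvertible LΔ)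
    (hΔ : ClSub.IsInverseOf LΔ (ClSub.idealMod (pullback.diagonal f).ker)) :
    IsIso (φ₀ (Over.mk f) (PicF.cl (CohB1.tensorMod LΔ
      ((Scheme.Modules.pullback (pullback.fst f f)).obj (ClSub.idealMod e.ker))))).left := by
  have i1 : SmoothOfRelativeDimension 1 f := K247.RelDim.curve f hdim
  have hC : K333.Fam.IsCurve f 1 := ⟨inferInstance, i1, inferInstance, hg⟩
  exact isIso_left hdim hC e he hP₀ LΔ hLΔ hΔ

end K416.EllJac
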