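import Groth.Agent.PicF.K416.EllZero
import Groth.Agent.AbDual.K732.RigSheaf
import Groth.Agent.Picfga.PicBridge
import Groth.Agent.Fga.NoethRep
import Groth.Agent.PicF.K245.GeomCR
import Groth.Agent.PicF.K247.SmoothGI

/-!
# Points of a family of curves of genus one and classes of degree one

`f : X ⟶ S` a smooth proper family of curves of genus one with a section `σ`.

* `existsUnique_point`: for every class `ν` of degree one on `X_T` there is exactly one `x : T ⟶ X` over `S` such that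
  `ν ⊗ O(-Γ_x)` is the pullback of a class on `T`.
-/

set_option autoImplicit false
set_option backward.isDefEq.respectTransparency false
universe u
open CategoryTheory CategoryTheory.Limits AlgebraicGeometry TopologicalSpace Opposite

namespace K416.EllMain

open Groth.Agent Groth.Agent.Grpsch Groth.Agent.Grpsch.PicGrp Groth.Agent.Fga.RigGrp Groth.Agent.Fga.JacSum
open Groth.Agent.Picfga.ChiDef Groth.Agent.Fga.JacSurj Groth.Agent.Fga.JacFactor K532.CurvePic K416.UGenExists
open Groth.Agent.Picfga Groth.Agent.Picfga.P1Def Groth.Agent.Picfga.SecGraph K416.EllField K416.EllZero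
open Groth.Agent.Fdesc.LocGen Groth.Agent.Flat2F.BCSec Groth.Agent.Flat2F.DescLocal
open Groth.Agent.Flat2F.RepH0Desc Groth.Agent.Picfga.OverRep

variable {X S : Scheme.{u}} {f : X ⟶ S}

section gen

theorem sec_top {W W' : Scheme.{u}} (k : W' ⟶ W) (M : W.Modules) (s : Γ(M, ⊤)) :
    VarietyB.PullSec.sec k M (U := ⊤) (V := ⊤) le_top s = pullTop k s :=
  Flat2F.SecBasis.res_self _ (le_refl (⊤ : W'.Opens)) (pullTop k s)

/-- A universal generator restricts to a basis over all `T' ⟶ U` with `T'` affine. -/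
theorem smul_bijective {T U : Over S} (h : U ⟶ T) {N : (PicF.XT f T).Modules} {s : Γ(pb f h N, ⊤)}
    (hs : K248.UGen.UGen (PicF.XTproj f T) N h.left (PicF.XTmap f h) (PicF.XTproj f U) s)
    {T' : Over S} (g : T' ⟶ U) (C : CommRingCat.{u}) (e : T'.left ≅ Spec C) :
    Function.Bijective (fun c : C => scal (PicF.XTproj f T' ≫ e.hom) c • pbTop f g (pb f h N) s) := by
  have H : IsPullback (PicF.XTmap f g ≫ PicF.XTmap f h) (PicF.XTproj f T' ≫ e.hom) (PicF.XTproj f T)
      ((e.inv ≫ g.left) ≫ h.left) := by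
    have h1 := Picfga.HilbPull.isPullback_XTmap f (g ≫ h)
    rw [XTmap_comp] at h1
    refine IsPullback.of_iso h1 (Iso.refl _) (Iso.refl _) e (Iso.refl _) ?_ ?_ ?_ ?_
    · simp
    · simp
    · simp
    · simp
  have h1 := hs C (e.inv ≫ g.left) _ _ _ H (PicF.XTmap f g) rfl (by
    rw [Category.assoc, e.hom_inv_id_assoc]
    exact (Picfga.HilbPull.isPullback_XTmap f g).w)
  rw [← Function.Bijective.of_comp_iff' (app_bijective
    (cmp (PicF.XTmap f g) (PicF.XTmap f h) (PicF.XTmap f g ≫ PicF.XTmap f h) rfl N) ⊤)]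
  convert h1 using 2 with c
  rw [Function.comp_apply, Scheme.Modules.Hom.app_smul, tr_apply, sec_top]
  rfl

theorem fn_eq_scal (T : Over S) [IsAffine T.left] (c : Γ(T.left, ⊤)) :
    scal (PicF.XTproj f T ≫ T.left.isoSpec.hom) c = fn f T c := by
  have h1 : (Scheme.ΓSpecIso Γ(T.left, ⊤)).inv ≫ (PicF.XTproj f T ≫ T.left.isoSpec.hom).appTop =
      (PicF.XTproj f T).appTop := by
    rw [Scheme.Hom.comp_appTop, Scheme.isoSpec_hom, Scheme.toSpecΓ_appTop, Iso.inv_hom_id_assoc]
  exact ConcreteCategory.congr_hom h1 c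

/-- A universal generator generates the sections over `U` if `U` is affine. -/
theorem exists_smul {T U : Over S} [IsAffine U.left] (h : U ⟶ T) {N : (PicF.XT f T).Modules}
    (hN : PicF.IsInvertible N) {s : Γ(pb f h N, ⊤)}
    (hs : K248.UGen.UGen (PicF.XTproj f T) N h.left (PicF.XTmap f h) (PicF.XTproj f U) s)
    (s' : Γ(pb f h N, ⊤)) : ∃ c : Γ(U.left, ⊤), s' = fn f U c • s := by
  have h1 := smul_bijective h hs (𝟙 U) _ U.left.isoSpec
  obtain ⟨c, hc⟩ := h1.2 (pbTop f (𝟙 U) (pb f h N) s')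
  refine ⟨c, ?_⟩
  dsimp only at hc
  rw [fn_eq_scal] at hc
  have h2 : pbTop f (𝟙 U) (pb f h N) (fn f U c • s) = fn f U c • pbTop f (𝟙 U) (pb f h N) s := by
    rw [RepA.pbTop_smul]
    congr 1
  rw [← h2] at hc
  have h3 : Function.Injective (pbTop f (𝟙 U) (pb f h N)) := by
    intro a b hab
    have h4 : pbTop f (𝟙 U) (pb f h N) (a - b) = 0 := by
      rw [pbTop, pullTop, sub_eq_add_neg, pullSec_add]
      have h5 : pullSec (PicF.XTmap f (𝟙 U)) (-b) = -pullSec (PicF.XTmap f (𝟙 U)) b :=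
        map_neg (((Scheme.Modules.pullbackPushforwardAdjunction _).unit.app _).app _).hom b
      rw [h5, ← sub_eq_add_neg, sub_eq_zero]
      exact hab
    have h5 : IsIso (PicF.XTmap f (𝟙 U)) := by
      rw [XTmap_id]
      infer_instance
    exact sub_eq_zero.1 (Fga.JacAlg.eq_zero_of_pullTop_eq_zero _ (isInvertible_pullback _ hN) _ h4)
  exact (h3 hc).symm

/-- A universal generator is nonzero on all fibres. -/
theorem pbTop_ne_zero {T U : Over S} (h : U ⟶ T) {N : (PicF.XT f T).Modules} {s : Γ(pb f h N, ⊤)}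
    (hs : K248.UGen.UGen (PicF.XTproj f T) N h.left (PicF.XTmap f h) (PicF.XTproj f U) s)
    (t : U.left) : pbTop f (ptHom U t) (pb f h N) s ≠ 0 := by
  intro h0
  have h1 := smul_bijective h hs (ptHom U t) (U.left.residueField t) (Iso.refl _)
  have h2 : (1 : U.left.residueField t) = 0 := by
    apply h1.1
    dsimp only
    rw [h0, smul_zero, smul_zero]
  exact one_ne_zero h2

/-- An invertible module is trivial near every point. -/
theorem exists_open_triv {Y : Scheme.{u}} (m : Pic Y) (y : Y) :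
    ∃ W : Y.Opens, y ∈ W ∧ ∀ (Z : Scheme.{u}) (a : Z ⟶ Y), Set.range a ⊆ (W : Set Y) → pull a m = 1 := by
  obtain ⟨M, hM, rfl⟩ := exists_mk m
  obtain ⟨W, e, hy, he⟩ := (isInvertible_iff M).1 hM y
  refine ⟨W, hy, fun Z a ha => ?_⟩
  rw [pull_mk, mk_eq_one_iff]
  have h1 : a ⁻¹ᵁ W = ⊤ := by
    rw [eq_top_iff]
    intro z _
    exact ha ⟨z, rfl⟩
  have h2 : IsGen (res _ h1.ge (pullSec a e)) := (he.pullSec a).res _
  have h3 : IsIso (homOf (res ((Scheme.Modules.pullback a).obj M) h1.ge (pullSec a e))) := by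
    rw [isIso_iff_isGen, sec_homOf, res_refl]
    exact h2
  exact ⟨(asIso (homOf (res ((Scheme.Modules.pullback a).obj M) h1.ge (pullSec a e)))).symm⟩

/-- Universal generators on small affine opens of the base. -/
theorem local_gen (hC : K333.Fam.IsCurve f 1) {T : Over S} {N : (PicF.XT f T).Modules}
    (hN : PicF.IsInvertible N) (hd : Dg f T (mk N hN) 1) (W : T.left.Opens) {t : T.left} (ht : t ∈ W) :
    ∃ (U : Over S) (h : U ⟶ T) (s : Γ(pb f h N, ⊤)), IsAffine U.left ∧ IsOpenImmersion h.left ∧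
      t ∈ Set.range h.left ∧ Set.range h.left ⊆ (W : Set T.left) ∧
      K248.UGen.UGen (PicF.XTproj f T) N h.left (PicF.XTmap f h) (PicF.XTproj f U) s := by
  have i1 := hC.rel
  have i2 := hC.proper
  have i3 := smoothOfRelDim_XTproj f T
  have i4 : Smooth (PicF.XTproj f T) := SmoothOfRelativeDimension.smooth 1 _
  have i5 : IsProper (PicF.XTproj f T) := inferInstanceAs (IsProper (pullback.snd f T.hom))
  have hU := ug_of_fh (PicF.XTproj f T) N hN (fh_of_dg_one hC hN hd)
  obtain ⟨T₀, j, hj, ⟨t₀, ht₀⟩, hG⟩ := hU t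
  obtain ⟨A, c, hc, ⟨y, hy⟩, hcW⟩ : ∃ (A : CommRingCat.{u}) (c : Spec A ⟶ T₀) (_ : IsOpenImmersion c),
      (∃ y, c y = t₀) ∧ Set.range c ⊆ ((j ⁻¹ᵁ W : T₀.Opens) : Set T₀) := by
    have h1 : t₀ ∈ j ⁻¹ᵁ W := by
      change j t₀ ∈ W
      have : j t₀ = t := ht₀
      rwa [this]
    obtain ⟨V, hV, htV, hVW⟩ := exists_isAffineOpen_mem_and_subset (U := j ⁻¹ᵁ W) h1
    refine ⟨_, hV.fromSpec, inferInstance, ?_, ?_⟩
    · have h2 : t₀ ∈ Set.range hV.fromSpec := by
        rw [hV.range_fromSpec]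
        exact htV
      exact h2
    · rw [hV.range_fromSpec]
      exact hVW
  obtain ⟨X₀, a₀, p₀, H₀, s₀, hs₀⟩ := hG.precomp c
  let U : Over S := Over.mk ((c ≫ j) ≫ T.hom)
  let h : U ⟶ T := Over.homMk (c ≫ j) rfl
  have e : c ≫ j ≫ 𝟙 T.left = c ≫ j := by rw [Category.comp_id]
  rw [e] at H₀ hs₀
  have hw := (Picfga.HilbPull.isPullback_XTmap f h).w
  let k : PicF.XT f U ⟶ X₀ := H₀.lift (PicF.XTmap f h) (PicF.XTproj f U) hw
  have h1 := hs₀.precomp (𝟙 _) k (PicF.XTmap f h) (PicF.XTproj f U) (H₀.lift_fst _ _ _) (by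
    rw [Category.comp_id]
    exact H₀.lift_snd _ _ _)
  rw [Category.id_comp] at h1
  refine ⟨U, h, _, inferInstanceAs (IsAffine (Spec A)), inferInstanceAs (IsOpenImmersion (c ≫ j)),
    ⟨y, ?_⟩, ?_, h1⟩
  · change (c ≫ j) y = t
    rw [Scheme.Hom.comp_apply, hy]
    exact ht₀
  · rintro _ ⟨z, rfl⟩
    change (c ≫ j) z ∈ W
    rw [Scheme.Hom.comp_apply]
    exact hcW ⟨z, rfl⟩

end gen

section main

variable (hC : K333.Fam.IsCurve f 1)

/-- The class `O(-Γ_x)` of a morphism over `S`. -/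
noncomputable def G1 [SmoothOfRelativeDimension 1 f] [IsSeparated f] {T : Over S} (x : T ⟶ Over.mk f) :
    Pic (PicF.XT f T) :=
  gcl f ⟨x.left, Over.w x⟩

theorem pull_G1 [SmoothOfRelativeDimension 1 f] [IsSeparated f] {T T' : Over S} (x : T ⟶ Over.mk f)
    (g : T' ⟶ T) : pull (PicF.XTmap f g) (G1 x) = G1 (g ≫ x) := by
  rw [G1, pull_gcl]
  rfl

include hC

theorem dg_G1 [SmoothOfRelativeDimension 1 f] [IsSeparated f] {T : Over S} (x : T ⟶ Over.mk f) :
    Dg f T (G1 x) (-1) := dg_gcl hC _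

/-- Uniqueness. -/
theorem unique [SmoothOfRelativeDimension 1 f] [IsSeparated f] {T : Over S} {ν : Pic (PicF.XT f T)}
    (hν : Dg f T ν 1) {x y : T ⟶ Over.mk f} {m n : Pic T.left}
    (hx : ν * G1 x = pull (PicF.XTproj f T) m) (hy : ν * G1 y = pull (PicF.XTproj f T) n) : x = y := by
  obtain ⟨N, hN, rfl⟩ := exists_mk ν
  choose W₁ hW₁ hm using fun t => exists_open_triv m t
  choose W₂ hW₂ hn using fun t => exists_open_triv n t
  choose U h s hU hh ht hW hs using fun t : T.left =>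
    local_gen hC hN hν (W₁ t ⊓ W₂ t) (t := t) ⟨hW₁ t, hW₂ t⟩
  have key : ∀ t, h t ≫ x = h t ≫ y := by
    intro t
    have := hU t
    have e1 : ∀ (z : T ⟶ Over.mk f) (l : Pic T.left), mk N hN * G1 z = pull (PicF.XTproj f T) l →
        pull (h t).left l = 1 → mk _ (isInvertible_pullback (PicF.XTmap f (h t)) hN) = (G1 (h t ≫ z))⁻¹ := by
      intro z l hz hl
      rw [eq_inv_iff_mul_eq_one, ← pull_mk (PicF.XTmap f (h t)) hN, ← pull_G1, ← map_mul, hz, ← pull_comp,
        (Picfga.HilbPull.isPullback_XTmap f (h t)).w, pull_comp, hl, map_one]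
    have h1 := eq_of_gen hC (isInvertible_pullback (PicF.XTmap f (h t)) hN)
      (fun s' => exists_smul (h t) hN (hs t) s') ⟨(h t ≫ x).left, Over.w _⟩ ⟨(h t ≫ y).left, Over.w _⟩
      (e1 x m hx (hm t _ _ ((hW t).trans fun _ hz => hz.1)))
      (e1 y n hy (hn t _ _ ((hW t).trans fun _ hz => hz.2)))
    exact Over.OverMorphism.ext (congrArg Subtype.val h1)
  let 𝒰 : Cov T :=
    { ι := T.left
      V := U
      j := h
      isOpen := hh
      covers := fun t => ⟨t, ht t⟩ }
  exact (Fga.NoethRep.isZarSheaf_yoneda (Over.mk f)).ext_cover T 𝒰 x y key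

variable (σ : S ⟶ X) (hσ : σ ≫ f = 𝟙 S)

include σ hσ in
/-- Existence. -/
theorem exists_point [SmoothOfRelativeDimension 1 f] [IsSeparated f] {T : Over S} {ν : Pic (PicF.XT f T)}
    (hν : Dg f T ν 1) : ∃ (x : T ⟶ Over.mk f) (m : Pic T.left), ν * G1 x = pull (PicF.XTproj f T) m := by
  obtain ⟨N, hN, rfl⟩ := exists_mk ν
  choose U h s hU hh ht hW hs using fun t : T.left => local_gen hC hN hν ⊤ (t := t) trivial
  have hpt : ∀ t, ∃ x : U t ⟶ Over.mk f, pull (PicF.XTmap f (h t)) (mk N hN) * G1 x = 1 := by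
    intro t
    have := hU t
    have hν' : Dg f (U t) (mk _ (isInvertible_pullback (PicF.XTmap f (h t)) hN)) 1 := by
      rw [← pull_mk]
      exact hν.pull (h t)
    obtain ⟨x, -, hx⟩ := exists_pt hC (isInvertible_pullback (PicF.XTmap f (h t)) hN) hν'
      (s := s t) (fun u => pbTop_ne_zero (h t) (hs t) u)
    refine ⟨Over.homMk x.1 x.2, ?_⟩
    rw [pull_mk, ← eq_inv_iff_mul_eq_one]
    exact hx
  choose x hx using hpt
  let 𝒰 : Cov T :=
    { ι := T.left
      V := U
      j := h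
      isOpen := hh
      covers := fun t => ⟨t, ht t⟩ }
  obtain ⟨y, hy, -⟩ := Fga.NoethRep.isZarSheaf_yoneda (Over.mk f) T 𝒰 x (by
    intro i k W a b hab
    have e1 : ∀ (l : T.left) (c : W ⟶ U l), pull (PicF.XTmap f (c ≫ h l)) (mk N hN) * G1 (c ≫ x l) =
        pull (PicF.XTproj f W) 1 := by
      intro l c
      rw [XTmap_comp, pull_comp, ← pull_G1, ← map_mul, hx, map_one, map_one]
    have e2 := e1 k b
    have hab' : a ≫ h i = b ≫ h k := hab
    rw [← hab'] at e2
    exact unique hC (hν.pull (a ≫ h i)) (e1 i a) e2)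
  have i4 : Smooth f := SmoothOfRelativeDimension.smooth 1 _
  have i5 := hC.proper
  have i6 := hC.conn
  have i8 := K247.SmoothGI.geometricallyIntegral f
  have i7 : GeometricallyReduced f := inferInstance
  have hF : ∀ T : Over S, Function.Bijective (PicF.XTproj f T).appTop := fun T =>
    (ConcreteCategory.isIso_iff_bijective _).1 (K245.GeomCR.isIso_app_snd f T.hom ⊤)
  let 𝒱 : K732.Cov.FCov T :=
    { ι := T.left
      V := U
      j := h
      flat := fun t => have := hh t; inferInstance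
      lfp := fun t => have := hh t; inferInstance
      covers := fun t => ⟨t, ht t⟩ }
  have h1 := K732.RigSheaf.norm_eq_one_of_local hσ hF 𝒱 (mk N hN * G1 y) (fun t => ⟨1, by
    have h2 : h t ≫ y = x t := hy t
    change pull (PicF.XTmap f (h t)) _ = _
    rw [map_mul, pull_G1, h2, hx, map_one]⟩)
  rw [norm_apply, div_eq_one] at h1
  exact ⟨y, _, h1⟩

end main

end K416.EllMain
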