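import Groth.Agent.PicF.K416.EllMain
import Groth.Agent.AbVar.K524.Num
import Groth.Agent.PerfB.FiberBC

/-!
# Sections of a family of elliptic curves and classes of degree zero on the total space

* `isCurve_of_euler`: the hypotheses of the statements give `K333.Fam.IsCurve f 1`;
* `dg_of_fibres`: the degree of a class on the total space from the Euler characteristics of the fibres;
* `existsUnique_section`: the theorem.
-/

set_option autoImplicit false
set_option backward.isDefEq.respectTransparency false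
universe u
open CategoryTheory CategoryTheory.Limits AlgebraicGeometry TopologicalSpace Opposite
open MonoidalCategory CartesianMonoidalCategory

namespace K416.EllSection

open Groth.Agent Groth.Agent.Grpsch Groth.Agent.Grpsch.PicGrp Groth.Agent.Fga.RigGrp Groth.Agent.Fga.JacSum
open Groth.Agent.Picfga.ChiDef Groth.Agent.Fga.JacSurj Groth.Agent.Fga.JacFactor K532.CurvePic K416.UGenExists
open Groth.Agent.Picfga Groth.Agent.Picfga.P1Def Groth.Agent.Picfga.SecGraph K416.EllField K416.EllZero K416.EllMain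
open K532.UnitBase

variable {X S : Scheme.{u}} (f : X ⟶ S)

theorem euler_eq {K : Type u} [Field K] (Y : Scheme.{u}) [Y.Over (Spec (CommRingCat.of K))] (F : Y.Modules) :
    FGA.eulerCharLE K Y F 1 = (Module.finrank K (Coh.HH Y F 0) : ℤ) - Module.finrank K (Coh.HH Y F 1) := by
  unfold FGA.eulerCharLE
  simp [Finset.sum_range_succ]
  ring

theorem isCurve_of_euler [IsProper f] [SmoothOfRelativeDimension 1 f] (hc : GeometricallyConnected f)
    (hg : ∀ s : S, @FGA.eulerCharLE (S.residueField s) _ (f.fiber s) (f.fiberOverSpecResidueField s)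
      (Coh.structureModule (f.fiber s)) 1 = 0) : K333.Fam.IsCurve f 1 := by
  have hsm : Smooth f := SmoothOfRelativeDimension.smooth 1 _
  have h1 : ∀ s : S, topologicalKrullDim ↥(f.fiber s) = 1 ∧
      (letI : (f.fiber s).Over (Spec (S.residueField s)) := ⟨f.fiberToSpecResidueField s⟩
      Curv2.genus (S.residueField s) (f.fiber s) = 1) := by
    intro s
    let _ : (f.fiber s).Over (Spec (CommRingCat.of (S.residueField s))) := ⟨f.fiberToSpecResidueField s⟩
    have h := IsPullback.of_hasPullback f (S.fromSpecResidueField s)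
    have p1 : IsProper (f.fiber s ↘ Spec (CommRingCat.of (S.residueField s))) :=
      MorphismProperty.of_isPullback h inferInstance
    have hbc := smoothOfRelativeDimension_isStableUnderBaseChange (n := 1)
    have p2 : SmoothOfRelativeDimension 1 (f.fiber s ↘ Spec (CommRingCat.of (S.residueField s))) :=
      MorphismProperty.of_isPullback (P := @SmoothOfRelativeDimension 1) h inferInstance
    have p2' : Smooth (f.fiber s ↘ Spec (CommRingCat.of (S.residueField s))) :=
      SmoothOfRelativeDimension.smooth 1 _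
    have p3 : GeometricallyConnected (f.fiber s ↘ Spec (CommRingCat.of (S.residueField s))) :=
      MorphismProperty.of_isPullback h inferInstance
    have p4 : ConnectedSpace (f.fiber s) := GeometricallyConnected.connectedSpace_of_subsingleton
      (f.fiber s ↘ Spec (CommRingCat.of (S.residueField s)))
    have p5 : topologicalKrullDim (f.fiber s) = 1 := Pi1.H536.CurveFam.topologicalKrullDim_eq (S.residueField s)
      (f.fiber s ↘ Spec (CommRingCat.of (S.residueField s))) 1
    have p6 := Pi1.H536.CurveFam.curve_cohomology (S.residueField s) (f.fiber s) p5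
    have p7 := hg s
    refine ⟨p5, ?_⟩
    have p8 := euler_eq (K := S.residueField s) (f.fiber s) (Coh.structureModule (f.fiber s))
    have p9 : (FGA.eulerCharLE (S.residueField s) (f.fiber s) (Coh.structureModule (f.fiber s)) 1 : ℤ) = 0 := p7
    rw [p9, p6.1] at p8
    change Module.finrank (S.residueField s) (Coh.HH (f.fiber s) (Coh.structureModule (f.fiber s)) 1) = 1
    omega
  exact K333.Fam.isCurve_of_fibres f (fun s => (h1 s).1) 1 (fun s => (h1 s).2)

/-- Cohomology on the fibres over field valued points. -/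
theorem finrank_field [IsProper f] {L : X.Modules} (hL : Coh.IsQCoh L) {K : Type u} [Field K]
    (t : Spec (CommRingCat.of K) ⟶ S) (x : Spec (CommRingCat.of K)) (i : ℕ) :
    letI := overK f t
    Module.finrank K (Coh.HH (PicF.XT f (Over.mk t)) ((Scheme.Modules.pullback (pullback.fst f t)).obj L) i) =
      PerfAux.betti f L (t x) i := by
  let _ := overK f t
  have h := IsPullback.of_hasPullback f t
  have hp : IsProper (PicF.XT f (Over.mk t) ↘ Spec (CommRingCat.of K)) :=
    MorphismProperty.of_isPullback h inferInstance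
  have hq : Coh.IsQCoh ((Scheme.Modules.pullback (pullback.fst f t)).obj L) :=
    VarietyB.PullSec.isQCoh_pullback _ _ hL
  rw [← K524.Num.finrank_eq_betti K (X := PicF.XT f (Over.mk t)) x _ hq i]
  exact PerfB.FiberBC.betti_eq h L _ (Iso.refl _) x i (VarietyB.PullSec.isQCoh_pullback _ _ hL)

/-- The degree from the Euler characteristics of the fibres. -/
theorem dg_of_fibres {g : ℕ} (hC : K333.Fam.IsCurve f g) {L : X.Modules} (hL : PicF.IsInvertible L) {d : ℤ}
    (h : ∀ s : S, @FGA.eulerCharLE (S.residueField s) _ (f.fiber s) (f.fiberOverSpecResidueField s)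
      ((Scheme.Modules.pullback (f.fiberι s)).obj L) 1 = d + 1 - g) (T : Over S) :
    Dg f T (pull (pullback.fst f T.hom) (mk L hL)) d := by
  intro K _ t a
  have i1 := hC.proper
  have h1 : PicF.XTmap f a ≫ pullback.fst f T.hom = pullback.fst f t := XTmap_fst f a
  rw [← pull_comp, h1, pull_mk]
  let _ := overK f t
  obtain ⟨h2, h3⟩ := isCurve hC t
  have x : Spec (CommRingCat.of K) := IsLocalRing.closedPoint K
  have hq : Coh.IsQCoh L := Ega2.QCohLocal.isQCoh_of_isInvertible hL
  change FGA.eulerCharLE K (PicF.XT f (Over.mk t)) _ 1 - FGA.eulerCharLE K (PicF.XT f (Over.mk t)) _ 1 = d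
  rw [euler_eq, euler_eq, finrank_field f hq t x 0, finrank_field f hq t x 1, h2.h0]
  have h4 := h (t x)
  have h5 : (PerfAux.betti f L (t x) 0 : ℤ) - PerfAux.betti f L (t x) 1 = d + 1 - g := by
    rw [← h4]
    exact (@euler_eq (S.residueField (t x)) _ (f.fiber (t x)) (f.fiberOverSpecResidueField (t x)) _).symm
  rw [h5]
  have h6 : (Module.finrank K (Coh.HH (PicF.XT f (Over.mk t))
    (Coh.structureModule (PicF.XT f (Over.mk t))) 1) : ℤ) = g := by exact_mod_cast h3
  rw [h6]
  push_cast
  ring

theorem swap_iff {G : Type*} [CommGroup G] (l s p b : G) : l * s⁻¹ * p = b ↔ l * p = s * b := by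
  constructor
  · rintro rfl
    rw [mul_comm s, mul_right_comm l, inv_mul_cancel_right]
  · intro h
    rw [mul_right_comm, h, mul_comm s, mul_inv_cancel_right]

section main

variable {f} [SmoothOfRelativeDimension 1 f] [IsProper f]

theorem mk_idealMod_ker (x : S ⟶ X) (hx : x ≫ f = 𝟙 S) (h : PicF.IsInvertible (ClSub.idealMod x.ker)) :
    mk (ClSub.idealMod x.ker) h = pull (ui f) (gcl f (pt f x hx)) := by
  rw [pull_ui_gcl]
  rfl

theorem existsUnique_section (hC : K333.Fam.IsCurve f 1) (σ : S ⟶ X) (hσ : σ ≫ f = 𝟙 S)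
    (L : X.Modules) (hL : PicF.IsInvertible L)
    (hL0 : ∀ s : S, @FGA.eulerCharLE (S.residueField s) _ (f.fiber s) (f.fiberOverSpecResidueField s)
      ((Scheme.Modules.pullback (f.fiberι s)).obj L) 1 = 0) :
    ∃! P : S ⟶ X, P ≫ f = 𝟙 S ∧ ∃ M : S.Modules, PicF.IsInvertible M ∧
      Nonempty (CohB1.tensorMod L (ClSub.idealMod P.ker) ≅
        CohB1.tensorMod (ClSub.idealMod σ.ker) ((Scheme.Modules.pullback f).obj M)) := by
  let T : Over S := 𝟙_ (Over S)
  let c : Pic (PicF.XT f T) := pull (pullback.fst f T.hom) (mk L hL)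
  let σ₁ : T ⟶ Over.mk f := Over.homMk σ hσ
  have hc : pull (ui f) c = mk L hL := by
    change pull (ui f) (pull (pullback.fst f (𝟙_ (Over S)).hom) (mk L hL)) = _
    rw [← pull_comp, ui_fst, pull_id]
  have hd : Dg f T (c * (G1 σ₁)⁻¹) 1 := by
    have h1 := dg_of_fibres f hC hL (d := 0) (by simpa using hL0) T
    exact Dg.mul hC h1 (Dg.inv hC (dg_G1 hC σ₁))
  have hI : ∀ (P : S ⟶ X), P ≫ f = 𝟙 S → PicF.IsInvertible (ClSub.idealMod P.ker) := fun P hP =>
    Dix.IdealModCartier.isInvertible_idealMod (isEff_ker f P hP)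
  have key : ∀ (P : S ⟶ X) (hP : P ≫ f = 𝟙 S),
      (∃ M : S.Modules, PicF.IsInvertible M ∧ Nonempty (CohB1.tensorMod L (ClSub.idealMod P.ker) ≅
        CohB1.tensorMod (ClSub.idealMod σ.ker) ((Scheme.Modules.pullback f).obj M))) ↔
      ∃ m : Pic T.left, (c * (G1 σ₁)⁻¹) * G1 (Over.homMk P hP : T ⟶ Over.mk f) =
        pull (PicF.XTproj f T) m := by
    intro P hP
    have e1 : ∀ m : Pic T.left, ((c * (G1 σ₁)⁻¹) * G1 (Over.homMk P hP : T ⟶ Over.mk f) =
        pull (PicF.XTproj f T) m) ↔ mk L hL * mk _ (hI P hP) = mk _ (hI σ hσ) * pull f m := by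
      intro m
      rw [← (uiPic f).injective.eq_iff, uiPic_apply, uiPic_apply, map_mul, map_mul, map_inv, hc,
        ← pull_comp, ui_proj, mk_idealMod_ker P hP, mk_idealMod_ker σ hσ]
      exact swap_iff _ _ _ _
    constructor
    · rintro ⟨M, hM, hiso⟩
      refine ⟨mk M hM, (e1 _).2 ?_⟩
      rw [pull_mk, mk_mul_mk, mk_mul_mk, mk_eq_iff]
      exact hiso
    · rintro ⟨m, hm⟩
      obtain ⟨M, hM, rfl⟩ := exists_mk m
      refine ⟨M, hM, ?_⟩
      have h1 := (e1 _).1 hm
      rw [pull_mk, mk_mul_mk, mk_mul_mk, mk_eq_iff] at h1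
      exact h1
  obtain ⟨x, m, hx⟩ := exists_point hC σ hσ hd
  have hx1 : x.left ≫ f = 𝟙 S := Over.w x
  refine ⟨x.left, ⟨hx1, (key x.left hx1).2 ⟨m, hx⟩⟩, ?_⟩
  rintro P ⟨hP, hM⟩
  obtain ⟨n, hn⟩ := (key P hP).1 hM
  have h1 := unique hC hd hn hx
  exact congrArg (fun z => z.left) h1

end main

end K416.EllSection
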