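import Groth.Agent.PicF.K416.EllField
import Groth.Agent.Picfga.ZeroFin
import Groth.Agent.Picfga.RepA
import Groth.Agent.Fga.ZeroClass
import Groth.Agent.Fga.JacFactor
import Groth.Agent.HilbD.K684.DegOne
import Groth.Agent.S1184

/-!
# Sections of invertible modules of degree one on a family of curves

`f : X ⟶ S` a smooth proper curve, `N` an invertible module on `X_T` of degree one on the fibres and `s` a section of
`N` which is nonzero on all fibres.

* `exists_pt`: the zero scheme of `s` is the graph of a `T`-valued point `x` of `X`, and `[N] = [O(-Γ_x)]⁻¹`;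
* `isZero_of_gen`: if `s` generates `H⁰` and `[N] = [O(-Γ_x)]⁻¹`, then the zero scheme of `s` is the graph of `x`;
* `eq_of_gen`: so `x` is determined by `N`.
-/

set_option autoImplicit false
set_option backward.isDefEq.respectTransparency false
universe u
open CategoryTheory CategoryTheory.Limits AlgebraicGeometry TopologicalSpace Opposite

namespace K416.EllZero

open Groth.Agent Groth.Agent.Grpsch Groth.Agent.Grpsch.PicGrp Groth.Agent.Fga.RigGrp Groth.Agent.Fga.JacSum
open Groth.Agent.Picfga.ChiDef Groth.Agent.Fga.JacSurj Groth.Agent.Fga.JacFactor K532.CurvePic K416.UGenExists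
open Groth.Agent.Picfga Groth.Agent.Picfga.ZeroDef Groth.Agent.Picfga.ZeroDiv Groth.Agent.Picfga.ZeroFin
open Groth.Agent.Picfga.P1Def Groth.Agent.Picfga.SecGraph Groth.Agent.Fga.ZeroClass K416.EllField
open Groth.Agent.Fdesc.LocGen

variable {X S : Scheme.{u}} {f : X ⟶ S} {g : ℕ} (hC : K333.Fam.IsCurve f g)

include hC

theorem isIntegral_ptOver (T : Over S) (t : T.left) : IsIntegral (PicF.XT f (ptOver T t)) := by
  let _ := overK (K := T.left.residueField t) f (T.left.fromSpecResidueField t ≫ T.hom)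
  exact (isCurve (K := T.left.residueField t) hC (T.left.fromSpecResidueField t ≫ T.hom)).1.curve.2.2.1

/-- The zero scheme of a section which is nonzero on all fibres is finite locally free. -/
theorem isFinLocFree {T : Over S} {N : (PicF.XT f T).Modules} (hN : PicF.IsInvertible N) {s : Γ(N, ⊤)}
    (hs : ∀ t : T.left, pbTop f (ptHom T t) N s ≠ 0) {I : (PicF.XT f T).IdealSheafData}
    (hI : IsZeroIdeal N s I) :
    Mor2.IsFinLocFree (I.subschemeι ≫ PicF.XTproj f T) := by
  have i1 := hC.rel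
  have i2 := hC.proper
  have := smoothOfRelDim_XTproj f T
  obtain ⟨h1, h2, h3⟩ := (S1184.result (PicF.XTproj f T) I).1.mp
    (isEffCartierIdeal_and_flat T N hN s hs (isIntegral_ptOver hC T) I hI)
  have : IsProper (PicF.XTproj f T) := inferInstanceAs (IsProper (pullback.snd f T.hom))
  exact ⟨IsFinite.of_isProper_of_locallyQuasiFinite _, h2, h3⟩

/-- Its degree is the degree of the invertible module. -/
theorem finrank_eq {T : Over S} {N : (PicF.XT f T).Modules} (hN : PicF.IsInvertible N) {d : ℤ}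
    (hd : Dg f T (mk N hN) d) {s : Γ(N, ⊤)}
    (hs : ∀ t : T.left, pbTop f (ptHom T t) N s ≠ 0) {I : (PicF.XT f T).IdealSheafData}
    (hI : IsZeroIdeal N s I) (t : T.left) :
    ((I.subschemeι ≫ PicF.XTproj f T).finrank t : ℤ) = d := by
  have i1 := hC.rel
  have i2 := hC.proper
  have hfl := isFinLocFree hC hN hs hI
  obtain ⟨hl1, hl2, hl3⟩ := hfl
  let Ω := AlgebraicClosure (T.left.residueField t)
  let u : Spec (CommRingCat.of Ω) ⟶ T.left :=
    Spec.map (CommRingCat.ofHom (algebraMap (T.left.residueField t) Ω)) ≫ T.left.fromSpecResidueField t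
  let t' : Spec (CommRingCat.of Ω) ⟶ S := u ≫ T.hom
  let b : Over.mk t' ⟶ T := ofHom T u
  let J := HilbD.pull f b I
  obtain ⟨m, hm⟩ := HilbPull.isPullback_pull_base f b I
  have hJ : Mor2.IsFinLocFreeOfDeg ((I.subschemeι ≫ PicF.XTproj f T).finrank t)
      (J.subschemeι ≫ PicF.XTproj f (Over.mk t')) := by
    refine ⟨⟨MorphismProperty.of_isPullback hm hl1, MorphismProperty.of_isPullback hm hl2,
      MorphismProperty.of_isPullback hm hl3⟩, fun y => ?_⟩
    rw [Scheme.Hom.finrank_of_isPullback _ _ _ _ hm]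
    congr 1
    change (Spec.map _ ≫ T.left.fromSpecResidueField t) y = t
    rw [Scheme.Hom.comp_apply, Scheme.fromSpecResidueField_apply]
  have := smoothOfRelDim_XTproj f (Over.mk t')
  have hE : BlowUp.IsEffCartierIdeal J :=
    ((S1184.result (PicF.XTproj f (Over.mk t')) J).2 hJ.1).1
  obtain ⟨x, hx⟩ := exists_prod_gcl f (T := Over.mk t') (Iso.refl _) _ J hJ hE
  have hz : IsZeroIdeal ((Scheme.Modules.pullback (PicF.XTmap f b)).obj N) (pullTop (PicF.XTmap f b) s) J := by
    have h1 := isZeroIdeal_pullback (PicF.XTmap f b) hN hI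
    rwa [← HilbPull.pull_eq_comap] at h1
  have h1 : pull (PicF.XTmap f b) (mk N hN) = (dcl J hE)⁻¹ := by
    rw [pull_mk]
    exact mk_eq_inv_dcl _ _ hz hE
  have h2 := hd Ω t' b
  rw [h1, dgK_inv hC, hx] at h2
  have h3 : ∀ (n : ℕ) (x : Fin n → Pt f (Over.mk t')), dgK f t' (∏ i, gcl f (x i)) = -(n : ℤ) := by
    intro n
    induction n with
    | zero =>
      intro x
      rw [Fin.prod_univ_zero, dgK_eq]
      simp
    | succ n ih =>
      intro x
      rw [Fin.prod_univ_succ, dgK_mul hC, ih]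
      have h4 := dg_gcl hC (x 0) Ω t' (𝟙 _)
      rw [XTmap_id, pull_id] at h4
      rw [h4]
      push_cast
      ring
  rw [h3, neg_neg] at h2
  exact h2

/-- The zero scheme of a section of a module of degree one. -/
theorem exists_pt {T : Over S} {N : (PicF.XT f T).Modules} (hN : PicF.IsInvertible N)
    (hd : Dg f T (mk N hN) 1) {s : Γ(N, ⊤)} (hs : ∀ t : T.left, pbTop f (ptHom T t) N s ≠ 0) :
    letI := hC.rel
    letI := hC.proper
    ∃ x : Pt f T, IsZeroIdeal N s (HilbD.secGraph f T x.1 x.2) ∧ mk N hN = (gcl f x)⁻¹ := by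
  have i1 := hC.rel
  have i2 := hC.proper
  obtain ⟨I, hI⟩ := exists_zeroIdeal hN s
  have h1 := isFinLocFree hC hN hs hI
  have h2 : Mor2.IsFinLocFreeOfDeg 1 (I.subschemeι ≫ PicF.XTproj f T) :=
    ⟨h1, fun t => by exact_mod_cast finrank_eq hC hN hd hs hI t⟩
  obtain ⟨x, hx, rfl⟩ := K684.DegOne.exists_secGraph f h2
  exact ⟨⟨x, hx⟩, hI, mk_eq_inv_dcl hN s hI (isEff_secGraph f ⟨x, hx⟩)⟩

omit hC in
theorem isUnit_of_ne_zero (Y : Scheme.{u}) (c : Γ(Y, ⊤))
    (h : ∀ y : Y, (Y.fromSpecResidueField y).appTop c ≠ 0) : IsUnit c := by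
  refine Y.toRingedSpace.isUnit_of_isUnit_germ ⊤ c fun y hy => ?_
  refine (Scheme.mem_basicOpen Y c y hy).1 ?_
  by_contra hy
  apply h y
  have h2 : (Y.fromSpecResidueField y) ⁻¹ᵁ (Y.basicOpen c) = ⊥ := by
    rw [eq_bot_iff]
    intro z hz
    have h3 : (Y.fromSpecResidueField y) z ∈ Y.basicOpen c := hz
    rw [Scheme.fromSpecResidueField_apply] at h3
    exact (hy h3).elim
  rw [Scheme.preimage_basicOpen_top] at h2
  exact (basicOpen_eq_bot_iff _).1 h2

/-- If `s` generates the sections and `N = O(Γ_x)` then the zero scheme of `s` is the graph of `x`. -/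
theorem isZero_of_gen {T : Over S} {N : (PicF.XT f T).Modules} (hN : PicF.IsInvertible N) {s : Γ(N, ⊤)}
    (hgen : ∀ s' : Γ(N, ⊤), ∃ c : Γ(T.left, ⊤), s' = fn f T c • s) (x : Pt f T)
    (hx : letI := hC.rel; letI := hC.proper; mk N hN = (gcl f x)⁻¹) :
    IsZeroIdeal N s (HilbD.secGraph f T x.1 x.2) := by
  have i1 := hC.rel
  have i2 := hC.proper
  obtain ⟨M, hM, s₁, hs₁⟩ := exists_section_of_isEffCartier (isEff_secGraph f x)
  have h1 : mk M hM = mk N hN := by
    rw [hx]
    exact mk_eq_inv_dcl hM s₁ hs₁ (isEff_secGraph f x)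
  obtain ⟨φ⟩ := (mk_eq_iff _ _).1 h1
  have h2 := isZeroIdeal_of_iso φ hs₁
  obtain ⟨c, hc⟩ := hgen (φ.hom.app ⊤ s₁)
  have hsm := smoothOfRelDim_XTproj f T
  have h3 : ∀ t : T.left, pbTop f (ptHom T t) N (φ.hom.app ⊤ s₁) ≠ 0 := fun t =>
    have := isIntegral_ptOver hC T t
    pbTop_ne_zero T N hN _ _ h2 (isFinLocFreeOfDeg_secGraph f x.1 x.2).1 t inferInstance
  have h4 : IsUnit c := by
    refine isUnit_of_ne_zero T.left c fun t h0 => h3 t ?_
    have h5 : fn f (ptOver T t) ((ptHom T t).left.appTop c) = 0 := by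
      have : (ptHom T t).left.appTop c = 0 := h0
      rw [this, fn, map_zero]
    rw [hc, RepA.pbTop_smul, h5, zero_smul]
  obtain ⟨c', hc'⟩ := h4.exists_left_inv
  have h5 : s = fn f T c' • φ.hom.app ⊤ s₁ := by
    rw [hc, smul_smul, fn, fn, ← map_mul, hc', map_one, one_smul]
  rw [h5]
  refine isZeroIdeal_unit_smul ?_ h2
  have h6 : IsUnit c' := IsUnit.of_mul_eq_one _ hc'
  exact h6.map _

/-- The point is determined by the class. -/
theorem eq_of_gen {T : Over S} {N : (PicF.XT f T).Modules} (hN : PicF.IsInvertible N) {s : Γ(N, ⊤)}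
    (hgen : ∀ s' : Γ(N, ⊤), ∃ c : Γ(T.left, ⊤), s' = fn f T c • s) (x y : Pt f T)
    (hx : letI := hC.rel; letI := hC.proper; mk N hN = (gcl f x)⁻¹)
    (hy : letI := hC.rel; letI := hC.proper; mk N hN = (gcl f y)⁻¹) : x = y := by
  have i1 := hC.rel
  have i2 := hC.proper
  exact Subtype.ext (K684.DegOne.eq_of_secGraph_eq f x.2 y.2
    (isZeroIdeal_unique hN (isZero_of_gen hC hN hgen x hx) (isZero_of_gen hC hN hgen y hy)))

end K416.EllZero
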