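import Groth.Agent.PicF.K248.UGen
import Groth.Agent.Models2.FibreFreeSch
import Groth.Agent.Fga.HShift
import Mathlib.RingTheory.LocalRing.Module

/-!
# Existence of universal generators of direct images

`f : X ⟶ S` proper, flat, locally of finite presentation, `N` invertible on `X`.

* `FH f N`: on every field valued fibre `N` has no higher cohomology and a one-dimensional space of sections;
* `ug_of_fh`: then `UG f N (𝟙 S)`: locally on `S` there is a section which is a basis of `Γ(X_C, N_C)` for every
  `Spec C ⟶ S`.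
-/

set_option autoImplicit false
set_option linter.style.haveILetI false
universe u
open CategoryTheory CategoryTheory.Limits AlgebraicGeometry TopologicalSpace Opposite

namespace K416.UGenExists

open K248.UGen
open Groth.Agent.Flat2F.SecBasis Groth.Agent.Flat2F.BasAlg Groth.Agent.Flat2F.BCSec
open Groth.Agent.Flat2F.LocBas Groth.Agent.Flat2F.ImmGlue Groth.Agent.Flat2F.DescLocal
open Groth.Agent.Flat2F.RepH0Desc Groth.Agent.VarietyB.PullSec

section Alg

/-- Nakayama's lemma, globalized. -/
theorem exists_kill {A : Type u} [CommRing A] (y : Ideal A) [y.IsPrime] (J : Ideal A) (hJ : J.FG)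
    (h : ∀ x ∈ J, algebraMap A (Localization.AtPrime y) x ∈
      (y * J).map (algebraMap A (Localization.AtPrime y))) :
    ∃ g ∉ y, ∀ x ∈ J, g * x = 0 := by
  classical
  have h1 : J.map (algebraMap A (Localization.AtPrime y)) = ⊥ := by
    refine Submodule.eq_bot_of_le_smul_of_le_jacobson_bot
      (y.map (algebraMap A (Localization.AtPrime y))) _ (hJ.map _) ?_ ?_
    · rw [smul_eq_mul, ← Ideal.map_mul, Ideal.map_le_iff_le_comap]
      exact h
    · rw [IsLocalRing.jacobson_eq_maximalIdeal ⊥ bot_ne_top,
        IsLocalization.AtPrime.map_eq_maximalIdeal y (Localization.AtPrime y)]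
  obtain ⟨s, rfl⟩ := hJ
  have h2 : ∀ x : s, ∃ g : y.primeCompl, (g : A) * x = 0 := by
    intro x
    have h3 : algebraMap A (Localization.AtPrime y) x = 0 := by
      have h4 : algebraMap A (Localization.AtPrime y) x ∈
          (Ideal.span (s : Set A)).map (algebraMap A (Localization.AtPrime y)) :=
        Ideal.mem_map_of_mem _ (Ideal.subset_span x.2)
      rw [h1] at h4
      exact h4
    exact (IsLocalization.map_eq_zero_iff y.primeCompl (Localization.AtPrime y) _).1 h3
  choose g hg using h2
  refine ⟨(∏ x : s, g x : y.primeCompl), (∏ x : s, g x : y.primeCompl).2, fun x hx => ?_⟩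
  have h5 : Ideal.span (s : Set A) ≤
      LinearMap.ker (LinearMap.mulLeft A ((∏ x : s, g x : y.primeCompl) : A)) := by
    rw [Ideal.span_le]
    intro z hz
    rw [SetLike.mem_coe, LinearMap.mem_ker, LinearMap.mulLeft_apply]
    obtain ⟨c, hc⟩ : g ⟨z, hz⟩ ∣ ∏ x : s, g x := Finset.dvd_prod_of_mem _ (Finset.mem_univ _)
    rw [hc, Submonoid.coe_mul, mul_comm (g ⟨z, hz⟩ : A), mul_assoc, hg ⟨z, hz⟩, mul_zero]
  exact h5 hx

/-- A nonzero element of a local ring does not kill a nonzero projective module. -/
theorem subsingleton_of_kill {B : Type u} [CommRing B] [IsLocalRing B] {P : Type u} [AddCommGroup P]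
    [Module B P] [Module.Finite B P] [Module.Projective B P] {x : B} (hx : x ≠ 0)
    (h : ∀ p : P, x • p = 0) : Subsingleton P := by
  have hfree : Module.Free B P := Module.free_of_flat_of_isLocalRing
  let b := Module.Free.chooseBasis B P
  by_contra hcon
  rw [not_subsingleton_iff_nontrivial] at hcon
  have : Nonempty (Module.Free.ChooseBasisIndex B P) := by
    by_contra hne
    rw [not_nonempty_iff] at hne
    exact not_subsingleton P b.repr.toEquiv.subsingleton
  obtain ⟨i⟩ := this
  have h1 := congrArg (fun v => b.repr v i) (h (b i))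
  simp at h1
  exact hx h1

end Alg

section FH

variable {X S : Scheme.{u}}

/-- `N` has no higher cohomology and a one-dimensional space of sections on all field valued fibres. -/
def FH (f : X ⟶ S) (N : X.Modules) : Prop :=
  ∀ (K : Type u) [Field K] (X' : Scheme.{u}) (a : X' ⟶ X) (p : X' ⟶ Spec (CommRingCat.of K))
    (t : Spec (CommRingCat.of K) ⟶ S), IsPullback a p f t →
    (∀ q : ℕ, 0 < q → Subsingleton (Coh.HH X' ((Scheme.Modules.pullback a).obj N) q)) ∧
      ∃ s : Γ((Scheme.Modules.pullback a).obj N, ⊤), Function.Bijective (fun c : K => scal p c • s)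

theorem FH.baseChange {f : X ⟶ S} {N : X.Modules} (h : FH f N) {X₁ S₁ : Scheme.{u}} {b : X₁ ⟶ X}
    {f₁ : X₁ ⟶ S₁} {j : S₁ ⟶ S} (H : IsPullback b f₁ f j) :
    FH f₁ ((Scheme.Modules.pullback b).obj N) := by
  intro K _ X' a p t H'
  obtain ⟨h1, s, hs⟩ := h K X' (a ≫ b) p (t ≫ j) (H'.paste_horiz H)
  let e := cmp a b (a ≫ b) rfl N
  refine ⟨fun q hq => ?_, e.inv.app ⊤ s, ?_⟩
  · have := h1 q hq
    exact Groth.Agent.Fga.HShift.subsingleton_of_iso e.symm q (h1 q hq)
  · rw [← Function.Bijective.of_comp_iff' (app_bijective e ⊤)]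
    convert hs using 2 with c
    rw [Function.comp_apply, Scheme.Modules.Hom.app_smul, hom_inv_app]

end FH

section Local

variable {A : CommRingCat.{u}} {X : Scheme.{u}} {f : X ⟶ Spec A} {N : X.Modules} (R : RepH0 f N)

theorem sum_one {m : Fin 1 → R.M} {c : A} (h : c • m 0 = 0) : c ∈ relIdeal (A := A) m :=
  mem_relIdeal (c := fun _ => c) (by rw [Fin.sum_univ_one]; exact h) 0

/-- Over a local quotient of `A` on which `y J` vanishes, `J` vanishes. -/
theorem eq_zero_of_mem [IsProper f] [Flat f] [LocallyOfFinitePresentation f] (hN : PicF.IsInvertible N)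
    (hF : FH f N) (m : Fin 1 → R.M) (hm : Submodule.span A (Set.range m) = ⊤)
    {B : CommRingCat.{u}} [IsLocalRing B] (φ : A ⟶ B)
    {x : A} (h : ∀ j ∈ relIdeal (A := A) m, φ j * φ x = 0)
    (hx : x ∈ relIdeal (A := A) m) : φ x = 0 := by
  by_contra hne
  have H := IsPullback.of_hasPullback f (Spec.map φ)
  have hgen : ∀ v : R.M, ∃ c : A, c • m 0 = v := by
    intro v
    obtain ⟨c, hc⟩ := relMap_surjective (A := A) hm v
    refine ⟨c 0, ?_⟩
    rw [relMap_apply, Fin.sum_univ_one] at hc
    exact hc
  choose c hc using hgen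
  -- a nonzero semilinear map
  let α : R.M →ₛₗ[φ.hom] B :=
    { toFun := fun v => φ (c v) * φ x
      map_add' := fun v w => by
        have h1 : c (v + w) - (c v + c w) ∈ relIdeal (A := A) m := sum_one R (by
          rw [sub_smul, add_smul, hc, hc, hc, sub_self])
        have h2 := h _ h1
        rw [map_sub, map_add, sub_mul, sub_eq_zero] at h2
        rw [h2, add_mul]
      map_smul' := fun r v => by
        have h1 : c (r • v) - r * c v ∈ relIdeal (A := A) m := sum_one R (by
          rw [sub_smul, mul_smul, hc, hc, sub_self])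
        have h2 := h _ h1
        rw [map_sub, map_mul, sub_mul, sub_eq_zero] at h2
        rw [h2, smul_eq_mul, mul_assoc] }
  have hα : α (m 0) = φ x := by
    have h1 : c (m 0) - 1 ∈ relIdeal (A := A) m := sum_one R (by
      rw [sub_smul, hc, one_smul, sub_self])
    have h2 := h _ h1
    rw [map_sub, map_one, sub_mul, one_mul, sub_eq_zero] at h2
    exact h2
  -- every semilinear map is killed by `φ x`
  have hkill : ∀ β : R.M →ₛₗ[φ.hom] B, φ x • β = 0 := by
    intro β
    refine semilin_ext R hm fun i => ?_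
    obtain rfl : i = 0 := Subsingleton.elim _ _
    have h0 : x • m 0 = 0 := by
      have hle : relIdeal (A := A) m ≤ LinearMap.ker (LinearMap.toSpanSingleton A R.M (m 0)) :=
        relIdeal_le fun c' hc' i => by
          obtain rfl : i = 0 := Subsingleton.elim _ _
          rw [Fin.sum_univ_one] at hc'
          rw [LinearMap.mem_ker, LinearMap.toSpanSingleton_apply]
          exact hc'
      have h1 := hle hx
      rwa [LinearMap.mem_ker, LinearMap.toSpanSingleton_apply] at h1
    have h1 : β (x • m 0) = 0 := by rw [h0, map_zero]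
    rw [map_smulₛₗ] at h1
    exact h1
  let f' := pullback.snd f (Spec.map φ)
  let a' := pullback.fst f (Spec.map φ)
  let N' := (Scheme.Modules.pullback a').obj N
  have hN' : PicF.IsInvertible N' := Groth.Agent.Fdesc.LocGen.isInvertible_pullback a' hN
  have hF' : FH f' N' := hF.baseChange H
  obtain ⟨-, hfin, hproj⟩ := Groth.Agent.Models2.FibreFreeSch.affineOpen f' hN' (U := ⊤)
    (isAffineOpen_top (Spec B)) (fun s _ p hp =>
      (hF' ((Spec B).residueField s) (f'.fiber s) (f'.fiberι s) (f'.fiberToSpecResidueField s)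
        ((Spec B).fromSpecResidueField s) (IsPullback.of_hasPullback _ _)).1 p hp)
  let R' := Γ(Spec B, ⊤)
  let e : B ≅ R' := (Scheme.ΓSpecIso B).symm
  have hloc : IsLocalRing R' := e.commRingCatIsoToRingEquiv.isLocalRing
  have hx' : e.hom (φ x) ≠ 0 := fun h0 => hne (by
    have := (ConcreteCategory.bijective_of_isIso e.hom).1
    apply this
    rw [h0, map_zero])
  have hsub := subsingleton_of_kill (B := R')
    (P := Γ((Scheme.Modules.pushforward f').obj N', ⊤)) hx' (by
      intro s
      obtain ⟨β, hβ⟩ := (R.bij H).2 s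
      have h1 := theta_smul R H (φ x) β
      rw [hkill β, theta_zero, hβ] at h1
      exact h1.symm)
  have hα0 : α = 0 := by
    apply (R.bij H).1
    exact hsub.elim _ _
  rw [hα0] at hα
  exact hne hα.symm

/-- If the representing module has one generator, it is invertible near every point. -/
theorem exists_away [IsProper f] [Flat f] [LocallyOfFinitePresentation f] (hN : PicF.IsInvertible N)
    (hF : FH f N) (m : Fin 1 → R.M) (hm : Submodule.span A (Set.range m) = ⊤) (y : Spec A) :
    ∃ g : A, g ∉ y.asIdeal ∧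
      UG f N (Spec.map (CommRingCat.ofHom (algebraMap A (Localization.Away g)))) := by
  have hfp := R.fp
  have hJy : relIdeal (A := A) m ≤ y.asIdeal := by
    let K := y.asIdeal.ResidueField
    let φ₀ : A ⟶ CommRingCat.of K := CommRingCat.ofHom (algebraMap A K)
    have H₀ := IsPullback.of_hasPullback f (Spec.map φ₀)
    obtain ⟨-, s₀, hs₀⟩ := hF K _ _ _ _ H₀
    obtain ⟨α₀, hα₀⟩ := (R.bij H₀).2 s₀
    have h1 : α₀ (m 0) ≠ 0 := by
      intro h0
      have h2 : α₀ = 0 := semilin_ext R hm fun i => by
        obtain rfl : i = 0 := Subsingleton.elim _ _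
        exact h0
      rw [h2, theta_zero] at hα₀
      rw [← hα₀] at hs₀
      have h3 : (1 : K) = 0 := hs₀.1 (by
        dsimp only
        rw [smul_zero, smul_zero])
      exact one_ne_zero h3
    refine relIdeal_le fun c hc i => ?_
    obtain rfl : i = 0 := Subsingleton.elim _ _
    rw [Fin.sum_univ_one] at hc
    have h2 := congrArg α₀ hc
    rw [map_smulₛₗ, map_zero, smul_eq_mul] at h2
    have h3 : algebraMap A K (c 0) = 0 := (mul_eq_zero.1 h2).resolve_right h1
    rwa [Ideal.algebraMap_residueField_eq_zero] at h3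
  have key : ∀ x ∈ relIdeal (A := A) m, algebraMap A (Localization.AtPrime y.asIdeal) x ∈
      (y.asIdeal * relIdeal (A := A) m).map (algebraMap A (Localization.AtPrime y.asIdeal)) := by
    intro x hx
    let Ay := Localization.AtPrime y.asIdeal
    let I' : Ideal Ay := (y.asIdeal * relIdeal (A := A) m).map (algebraMap A Ay)
    let φ : A ⟶ CommRingCat.of (Ay ⧸ I') := CommRingCat.ofHom ((Ideal.Quotient.mk I').comp (algebraMap A Ay))
    have hI' : I' ≠ ⊤ := by
      have h1 : I' ≤ IsLocalRing.maximalIdeal Ay := by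
        rw [← IsLocalization.AtPrime.map_eq_maximalIdeal y.asIdeal Ay]
        exact Ideal.map_mono Ideal.mul_le_left
      exact fun h2 => (IsLocalRing.maximalIdeal.isMaximal Ay).ne_top (top_le_iff.1 (h2 ▸ h1))
    have hnt : Nontrivial (Ay ⧸ I') := Ideal.Quotient.nontrivial_iff.2 hI'
    have hloc : IsLocalRing (Ay ⧸ I') := IsLocalRing.of_surjective' (Ideal.Quotient.mk I')
      Ideal.Quotient.mk_surjective
    have hloc' : IsLocalRing (CommRingCat.of (Ay ⧸ I')) := hloc
    have hz : ∀ z ∈ y.asIdeal * relIdeal (A := A) m, φ z = 0 := fun z hz =>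
      Ideal.Quotient.eq_zero_iff_mem.2 (Ideal.mem_map_of_mem _ hz)
    have h1 := eq_zero_of_mem R hN hF m hm φ (x := x) (fun j hj => by
      rw [← map_mul, mul_comm]
      exact hz _ (Ideal.mul_mem_mul (hJy hx) hj)) hx
    exact Ideal.Quotient.eq_zero_iff_mem.1 h1
  obtain ⟨g, hg, hgJ⟩ := exists_kill y.asIdeal _ (relIdeal_fg (A := A) (M := R.M) hm) key
  refine ⟨g, hg, (ug_iff_of_generator R m hm _ _).2 (exists_factor_spec _ _ fun x hx => ?_)⟩
  have h1 : IsUnit (algebraMap A (Localization.Away g) g) := IsLocalization.Away.algebraMap_isUnit g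
  have h2 : algebraMap A (Localization.Away g) g * algebraMap A (Localization.Away g) x = 0 := by
    rw [← map_mul, hgJ x hx, map_zero]
  exact h1.mul_right_eq_zero.1 h2

include R in
theorem exists_near [IsProper f] [Flat f] [LocallyOfFinitePresentation f] (hN : PicF.IsInvertible N)
    (hF : FH f N) (y : Spec A) :
    ∃ (A' : CommRingCat.{u}) (j : Spec A' ⟶ Spec A) (_ : IsOpenImmersion j), y ∈ Set.range j.base ∧ UG f N j := by
  let K := y.asIdeal.ResidueField
  let φ : A ⟶ CommRingCat.of K := CommRingCat.ofHom (algebraMap A K)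
  have H₀ := IsPullback.of_hasPullback f (Spec.map φ)
  obtain ⟨-, s₀, hs₀⟩ := hF K _ _ _ _ H₀
  obtain ⟨α, hα⟩ := (R.bij H₀).2 s₀
  have hB : IsBas K (fun _ : Fin 1 => α) := by
    have h1 : (fun c : K => scal (pullback.snd f (Spec.map φ)) c • s₀) =
        (fun β => R.θ H₀ β) ∘ fun c : K => c • α := by
      funext c
      rw [← hα]
      exact (theta_smul R H₀ c α).symm
    rw [h1, Function.Bijective.of_comp_iff' (R.bij H₀)] at hs₀
    have h2 : (fun c : Fin 1 → K => ∑ i, c i • (fun _ : Fin 1 => α) i) =
        (fun c : K => c • α) ∘ (fun c : Fin 1 → K => c 0) := by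
      funext c
      rw [Fin.sum_univ_one]
      rfl
    rw [IsBas, h2]
    exact hs₀.comp (Equiv.funUnique (Fin 1) K).bijective
  have := R.fp
  obtain ⟨m, g, hg, hm⟩ := Groth.Agent.Flat2F.GenAlg.exists_gens (K := K) φ.hom _ hB
  let Ag : CommRingCat.{u} := CommRingCat.of (Localization.Away g)
  let alg : A ⟶ Ag := CommRingCat.ofHom (algebraMap A (Localization.Away g))
  have hj : IsOpenImmersion (Spec.map alg) := inferInstanceAs
    (IsOpenImmersion (Spec.map (CommRingCat.ofHom (algebraMap A (Localization.Away g)))))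
  have H := IsPullback.of_hasPullback f (Spec.map alg)
  let Rg := ofPullback H R
  have hm' := span_ext alg.hom g (IsLocalization.Away.algebraMap_isUnit g) m hm
  have hgy : g ∉ y.asIdeal := by
    intro h
    exact hg (Ideal.algebraMap_residueField_eq_zero.2 h)
  obtain ⟨y', hy'⟩ : ∃ y' : Spec Ag, (Spec.map alg).base y' = y := by
    have h1 := PrimeSpectrum.localization_away_comap_range (Localization.Away g) g
    have h2 : y ∈ Set.range (PrimeSpectrum.comap (algebraMap A (Localization.Away g))) := by
      rw [h1]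
      exact hgy
    exact h2
  obtain ⟨g', hg', hU⟩ := exists_away Rg (Groth.Agent.Fdesc.LocGen.isInvertible_pullback _ hN)
    (hF.baseChange H) _ hm' y'
  refine ⟨CommRingCat.of (Localization.Away g'), Spec.map (CommRingCat.ofHom
    (algebraMap Ag (Localization.Away g'))) ≫ Spec.map alg, inferInstance, ?_, (ug_baseChange H _).1 hU⟩
  obtain ⟨y'', hy''⟩ : ∃ y'' : Spec (CommRingCat.of (Localization.Away g')),
      (Spec.map (CommRingCat.ofHom (algebraMap Ag (Localization.Away g')))).base y'' = y' := by
    have h1 := PrimeSpectrum.localization_away_comap_range (Localization.Away g') g'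
    have h2 : y' ∈ Set.range (PrimeSpectrum.comap (algebraMap Ag (Localization.Away g'))) := by
      rw [h1]
      exact hg'
    exact h2
  refine ⟨y'', ?_⟩
  rw [Scheme.Hom.comp_base, TopCat.comp_app, hy'', hy']

end Local

/-- Existence of universal generators, locally on the base. -/
theorem ug_of_fh {X S : Scheme.{u}} (f : X ⟶ S) [IsProper f] [Flat f] [LocallyOfFinitePresentation f]
    (N : X.Modules) (hN : PicF.IsInvertible N) (hF : FH f N) : UG f N (𝟙 S) := by
  refine UG.of_local _ fun s => ?_
  obtain ⟨A, j, hj, y, hy⟩ : ∃ (A : CommRingCat.{u}) (j : Spec A ⟶ S) (_ : IsOpenImmersion j)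
      (y : Spec A), j.base y = s := by
    obtain ⟨y, hy⟩ := S.affineOpenCover.covers s
    exact ⟨_, S.affineOpenCover.f _, inferInstance, y, hy⟩
  have H := IsPullback.of_hasPullback f j
  have hN' : PicF.IsInvertible ((Scheme.Modules.pullback (pullback.fst f j)).obj N) :=
    Groth.Agent.Fdesc.LocGen.isInvertible_pullback _ hN
  obtain ⟨R⟩ := Groth.Agent.Flat2F.RepH0.exists_repH0 (pullback.snd f j)
    ((Scheme.Modules.pullback (pullback.fst f j)).obj N)
    (Groth.Agent.Models2.FibreFreeSch.isFinLocFree_of_isInvertible hN')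
  obtain ⟨A', j', hj', ⟨y', hy'⟩, hU⟩ := exists_near R hN' (hF.baseChange H) y
  refine ⟨Spec A', j' ≫ j, inferInstance, ⟨y', ?_⟩, ?_⟩
  · rw [Scheme.Hom.comp_base, TopCat.comp_app, hy', hy]
  · rw [Category.comp_id]
    exact (ug_baseChange H _).1 hU

end K416.UGenExists
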